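import Cfsg.Agent.OddOrder.ZJ.Glauberman
import Cfsg.Agent.ConjFunctor.Basic

/-!
# Failure of fusion control by `Z(J(S))`: the setting and the invariants of a subgroup

For `Y ≤ U` the invariants are: `R U`, the preimage in `U ∩ C(Y)` of the Thompson subgroup of
`(U ∩ C(Y))/Y`; `T U`, generated by the abelian subgroups of order `d(S)` of `U ∩ C(Y)`; the
section `B U` of the centre of `R U / Y`; the set `D U` of elements quadratic on `B U / Y`.
-/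

set_option autoImplicit false

namespace CfsgLib.LocalEven.ZJFailure

open Subgroup CfsgLib.ConjFunctor CfsgLib.OddOrder.ZJ
open scoped commutatorElement

section mab

variable {Q : Type*} [Group Q]

/-- The largest order of an abelian subgroup. -/
noncomputable def mab (X : Subgroup Q) : ℕ :=
  sSup {n | ∃ A, A ≤ X ∧ IsMulCommutative A ∧ n = Nat.card A}

theorem mab_bddAbove [Finite Q] (X : Subgroup Q) :
    BddAbove {n | ∃ A, A ≤ X ∧ IsMulCommutative A ∧ n = Nat.card A} :=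
  ⟨Nat.card Q, by rintro _ ⟨A, -, -, rfl⟩; exact Subgroup.card_le_card_group A⟩

theorem card_le_mab [Finite Q] {X A : Subgroup Q} (hA : A ≤ X) (hc : IsMulCommutative A) :
    Nat.card A ≤ mab X :=
  le_csSup (mab_bddAbove X) ⟨A, hA, hc, rfl⟩

theorem exists_card_eq_mab [Finite Q] (X : Subgroup Q) :
    ∃ A, A ≤ X ∧ IsMulCommutative A ∧ Nat.card A = mab X := by
  obtain ⟨A, h1, h2, h3⟩ := Nat.sSup_mem
    (s := {n | ∃ A, A ≤ X ∧ IsMulCommutative A ∧ n = Nat.card A})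
    ⟨_, ⊥, bot_le, inferInstance, rfl⟩ (mab_bddAbove X)
  exact ⟨A, h1, h2, h3.symm⟩

theorem mab_mono [Finite Q] {X X' : Subgroup Q} (h : X ≤ X') : mab X ≤ mab X' := by
  obtain ⟨A, h1, h2, h3⟩ := exists_card_eq_mab X
  rw [← h3]
  exact card_le_mab (h1.trans h) h2

theorem mem_maxIn_iff [Finite Q] {X A : Subgroup Q} :
    A ∈ maxIn 0 X ↔ A ≤ X ∧ IsMulCommutative A ∧ Nat.card A = mab X := by
  constructor
  · rintro ⟨h1, ⟨h2, -⟩, h3⟩
    obtain ⟨C, c1, c2, c3⟩ := exists_card_eq_mab X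
    exact ⟨h1, h2, le_antisymm (card_le_mab h1 h2)
      (c3 ▸ h3 C c1 ⟨c2, fun a _ => pow_zero a⟩)⟩
  · rintro ⟨h1, h2, h3⟩
    exact ⟨h1, ⟨h2, fun a _ => pow_zero a⟩, fun C hC hCe => h3 ▸ card_le_mab hC hCe.1⟩

theorem maxIn_nonempty [Finite Q] (X : Subgroup Q) : ∃ A, A ∈ maxIn 0 X := by
  obtain ⟨A, h1, h2, h3⟩ := exists_card_eq_mab X
  exact ⟨A, mem_maxIn_iff.mpr ⟨h1, h2, h3⟩⟩

theorem jay_mono [Finite Q] {X X' : Subgroup Q} (h : X ≤ X') (he : mab X = mab X') :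
    jay 0 X ≤ jay 0 X' := by
  refine sSup_le fun A hA => le_sSup ?_
  obtain ⟨h1, h2, h3⟩ := mem_maxIn_iff.mp hA
  exact mem_maxIn_iff.mpr ⟨h1.trans h, h2, he ▸ h3⟩

theorem map_maxIn [Finite Q] (e : Q ≃* Q) {X A : Subgroup Q} (hA : A ∈ maxIn 0 X) :
    A.map e.toMonoidHom ∈ maxIn 0 (X.map e.toMonoidHom) := by
  haveI := hA.2.1.1
  refine ⟨map_mono hA.1, isExpAbelian_map e.toMonoidHom hA.2.1, fun C hC hCe => ?_⟩
  have hi : Function.Injective e.symm.toMonoidHom := e.symm.injective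
  rw [card_map_of_injective (f := e.toMonoidHom) e.injective, ← card_map_of_injective (K := C) hi]
  refine hA.2.2 _ ?_ (isExpAbelian_map _ hCe)
  rintro _ ⟨c, hc, rfl⟩
  obtain ⟨x, hx, rfl⟩ := hC hc
  simpa using hx

theorem mab_map [Finite Q] (e : Q ≃* Q) (X : Subgroup Q) : mab (X.map e.toMonoidHom) = mab X := by
  obtain ⟨A, hA⟩ := maxIn_nonempty X
  rw [← (mem_maxIn_iff.mp (map_maxIn e hA)).2.2, card_map_of_injective e.injective,
    (mem_maxIn_iff.mp hA).2.2]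

theorem jay_map [Finite Q] (e : Q ≃* Q) (X : Subgroup Q) :
    jay 0 (X.map e.toMonoidHom) = (jay 0 X).map e.toMonoidHom := by
  refine le_antisymm (sSup_le fun A hA => ?_) ?_
  · have h := map_maxIn e.symm hA
    have hX : (X.map e.toMonoidHom).map e.symm.toMonoidHom = X := by ext x; simp
    rw [hX] at h
    intro a ha
    exact ⟨e.symm a, le_sSup (α := Subgroup Q) h ⟨a, ha, rfl⟩, e.apply_symm_apply a⟩
  · rw [map_le_iff_le_comap]
    exact sSup_le fun A hA => map_le_iff_le_comap.mp (le_sSup (map_maxIn e hA))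

end mab

/-- A group in which `N(Z)` fails to control fusion in `S`, minimally above a normal subgroup `Y`. -/
structure Setting (p : ℕ) (G : Type*) [Group G] where
  /-- The Sylow subgroup. -/
  S : Subgroup G
  /-- The centre of its Thompson subgroup. -/
  Z : Subgroup G
  /-- A normal subgroup inside `Z`. -/
  Y : Subgroup G
  /-- An element of `Z` central modulo `Y` in `S`. -/
  z : G
  /-- The largest order of an abelian subgroup of `S`. -/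
  dS : ℕ
  sylow : IsSylowIn p S ⊤
  le_norm : S ≤ Subgroup.normalizer (Z : Set G)
  comm : IsMulCommutative Z
  normal : Y.Normal
  Y_le : Y ≤ Z
  Z_le : Z ≤ S
  z_mem : z ∈ Z
  z_nmem : z ∉ Y
  z_central : ∀ s ∈ S, ⁅z, s⁆ ∈ Y
  z_pow : z ^ p ∈ Y
  max_le : ∀ A : Subgroup G, A ≤ S → IsMulCommutative A → Nat.card A ≤ dS
  cent : ∀ A : Subgroup G, A ≤ S → IsMulCommutative A → Nat.card A = dS →
    Z ≤ Subgroup.centralizer (A : Set G)
  norm_T : ∀ g : G,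
    g *• sSup {A : Subgroup G | A ≤ S ∧ IsMulCommutative A ∧ Nat.card A = dS} =
      sSup {A : Subgroup G | A ≤ S ∧ IsMulCommutative A ∧ Nat.card A = dS} →
    g ∈ Subgroup.normalizer (Z : Set G)
  controlled : ∀ U : Subgroup G, U ≤ S → ∀ g : G, g *• U ≤ S → ⁅g, z⁆ ∈ Y →
    ∃ h ∈ Subgroup.normalizer (Z : Set G), ∀ u ∈ U, h * u * h⁻¹ = g * u * g⁻¹
  failing : ∃ U : Subgroup G, U ≤ S ∧ ∃ g : G, g *• U ≤ S ∧
    ¬ ∃ h ∈ Subgroup.normalizer (Z : Set G), ∀ u ∈ U, h * u * h⁻¹ = g * u * g⁻¹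

namespace Setting

variable {p : ℕ} {G : Type*} [Group G] (σ : Setting p G)

instance : σ.Y.Normal := σ.normal

/-- `N(Z)`. -/
abbrev H : Subgroup G := Subgroup.normalizer (σ.Z : Set G)

/-- Some element of `N(Z)` acts as `g` on `U`. -/
def Good (U : Subgroup G) (g : G) : Prop :=
  ∃ h ∈ σ.H, ∀ u ∈ U, h * u * h⁻¹ = g * u * g⁻¹

theorem Good.mono {U V : Subgroup G} {g : G} (h : σ.Good V g) (hUV : U ≤ V) : σ.Good U g :=
  h.imp fun _ hh => ⟨hh.1, fun u hu => hh.2 u (hUV hu)⟩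

theorem good_of_mem {g : G} (hg : g ∈ σ.H) (U : Subgroup G) : σ.Good U g :=
  ⟨g, hg, fun _ _ => rfl⟩

theorem Good.mul {U : Subgroup G} {g g' : G} (h : σ.Good U g) (h' : σ.Good (g *• U) g') :
    σ.Good U (g' * g) := by
  obtain ⟨a, ha, ha'⟩ := h
  obtain ⟨b, hb, hb'⟩ := h'
  refine ⟨b * a, mul_mem hb ha, fun u hu => ?_⟩
  calc b * a * u * (b * a)⁻¹ = b * (a * u * a⁻¹) * b⁻¹ := by group
    _ = b * (g * u * g⁻¹) * b⁻¹ := by rw [ha' u hu]
    _ = g' * (g * u * g⁻¹) * g'⁻¹ := hb' _ (conj_mem_cj g hu)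
    _ = _ := by group

theorem Good.inv {U : Subgroup G} {g : G} (h : σ.Good U g) : σ.Good (g *• U) g⁻¹ := by
  obtain ⟨a, ha, ha'⟩ := h
  refine ⟨a⁻¹, inv_mem ha, ?_⟩
  rintro _ ⟨u, hu, rfl⟩
  show a⁻¹ * (g * u * g⁻¹) * a⁻¹⁻¹ = g⁻¹ * (g * u * g⁻¹) * g⁻¹⁻¹
  rw [← ha' u hu]
  conv_rhs => rw [ha' u hu]
  group

/-- The quotient map by `Y`. -/
abbrev q : G →* G ⧸ σ.Y := QuotientGroup.mk' σ.Y

theorem q_eq_one {g : G} : σ.q g = 1 ↔ g ∈ σ.Y := QuotientGroup.eq_one_iff g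

theorem comm_mem_Y_iff {a b : G} : ⁅a, b⁆ ∈ σ.Y ↔ σ.q a * σ.q b = σ.q b * σ.q a := by
  rw [← σ.q_eq_one, map_commutatorElement, commutatorElement_eq_one_iff_mul_comm]

theorem comm_mem_Y_symm {a b : G} (h : ⁅a, b⁆ ∈ σ.Y) : ⁅b, a⁆ ∈ σ.Y := by
  rw [comm_mem_Y_iff] at h ⊢
  exact h.symm

/-- The elements centralising `z` modulo `Y` fix `z` modulo `Y`. -/
theorem q_conj_z {g : G} : ⁅g, σ.z⁆ ∈ σ.Y ↔ σ.q (g * σ.z * g⁻¹) = σ.q σ.z := by
  rw [comm_mem_Y_iff, map_mul, map_mul, map_inv, mul_inv_eq_iff_eq_mul]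

/-- The part of `U` centralising `Y`. -/
def Up (U : Subgroup G) : Subgroup G := U ⊓ Subgroup.centralizer (σ.Y : Set G)

/-- The preimage of the Thompson subgroup of `Up U / Y`. -/
def R (U : Subgroup G) : Subgroup G := (jay 0 ((σ.Up U).map σ.q)).comap σ.q ⊓ σ.Up U

/-- The subgroup generated by the abelian subgroups of order `d(S)` of `Up U`. -/
def T (U : Subgroup G) : Subgroup G :=
  sSup {A : Subgroup G | A ≤ σ.Up U ∧ IsMulCommutative A ∧ Nat.card A = σ.dS}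

/-- The elements of exponent `p` of the centre of `R U / Y` centralising `T U`. -/
def B (U : Subgroup G) : Subgroup G where
  carrier := {b | b ∈ σ.R U ∧ σ.q b ∈ Subgroup.centralizer (((σ.R U).map σ.q : Subgroup _) : Set _) ∧
    σ.q b ^ p = 1 ∧ b ∈ Subgroup.centralizer (σ.T U : Set G)}
  one_mem' := ⟨one_mem _, by rw [map_one]; exact one_mem _, by simp, one_mem _⟩
  mul_mem' := by
    rintro a b ⟨a1, a2, a3, a4⟩ ⟨b1, b2, b3, b4⟩
    refine ⟨mul_mem a1 b1, by rw [map_mul]; exact mul_mem a2 b2, ?_, mul_mem a4 b4⟩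
    have hc : Commute (σ.q a) (σ.q b) :=
      (mem_centralizer_iff.mp a2 _ (mem_map_of_mem σ.q b1)).symm
    rw [map_mul, hc.mul_pow, a3, b3, one_mul]
  inv_mem' := by
    rintro a ⟨a1, a2, a3, a4⟩
    exact ⟨inv_mem a1, by rw [map_inv]; exact inv_mem a2, by rw [map_inv, inv_pow, a3, inv_one],
      inv_mem a4⟩

/-- `u` is quadratic on `B / Y`. -/
def Quad (B : Subgroup G) (u : G) : Prop := ∀ b ∈ B, ⁅⁅b, u⁆, u⁆ ∈ σ.Y

/-- The elements of `U` quadratic on `B U / Y`. -/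
def D (U : Subgroup G) : Set G := {u | u ∈ U ∧ σ.Quad (σ.B U) u}

/-- The subgroup they generate. -/
def R1 (U : Subgroup G) : Subgroup G := Subgroup.closure (σ.D U)

theorem R_le (U : Subgroup G) : σ.R U ≤ σ.Up U := inf_le_right

theorem Up_le (U : Subgroup G) : σ.Up U ≤ U := inf_le_left

theorem T_le (U : Subgroup G) : σ.T U ≤ σ.Up U := sSup_le fun _ h => h.1

theorem B_le (U : Subgroup G) : σ.B U ≤ σ.R U := fun _ h => h.1

theorem Y_comm {a b : G} (ha : a ∈ σ.Y) (hb : b ∈ σ.Y) : a * b = b * a :=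
  CfsgLib.LocalEvenBasic.commute_of_mem_isMulCommutative σ.comm (σ.Y_le ha) (σ.Y_le hb)

theorem Y_le_Up {U : Subgroup G} (hY : σ.Y ≤ U) : σ.Y ≤ σ.Up U :=
  le_inf hY fun _ ha => mem_centralizer_iff.mpr fun _ hb => σ.Y_comm hb ha

theorem z_mem_centralizer_Y : σ.z ∈ Subgroup.centralizer (σ.Y : Set G) :=
  mem_centralizer_iff.mpr fun _ hb =>
    CfsgLib.LocalEvenBasic.commute_of_mem_isMulCommutative σ.comm (σ.Y_le hb) σ.z_mem

theorem R_comm_B {U : Subgroup G} {b r : G} (hb : b ∈ σ.B U) (hr : r ∈ σ.R U) : ⁅b, r⁆ ∈ σ.Y :=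
  σ.comm_mem_Y_iff.mpr (mem_centralizer_iff.mp hb.2.1 _ (mem_map_of_mem σ.q hr)).symm

theorem R_subset_D (U : Subgroup G) : (σ.R U : Set G) ⊆ σ.D U := fun r hr => by
  refine ⟨σ.Up_le U (σ.R_le U hr), fun b hb => ?_⟩
  have h : ⁅⁅b, r⁆, r⁆ = 1 := commutatorElement_eq_one_iff_mul_comm.mpr
    (mem_centralizer_iff.mp (σ.R_le U hr).2 _ (σ.R_comm_B hb hr))
  rw [h]
  exact one_mem _

theorem T_subset_D (U : Subgroup G) : (σ.T U : Set G) ⊆ σ.D U := fun t ht => by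
  refine ⟨σ.Up_le U (σ.T_le U ht), fun b hb => ?_⟩
  rw [commutatorElement_eq_one_iff_mul_comm.mpr (mem_centralizer_iff.mp hb.2.2.2 t ht).symm,
    commutatorElement_one_left]
  exact one_mem _

theorem R1_le (U : Subgroup G) : σ.R1 U ≤ U := (closure_le _).mpr fun _ h => h.1

theorem R_le_R1 (U : Subgroup G) : σ.R U ≤ σ.R1 U := fun _ h =>
  subset_closure (σ.R_subset_D U h)

theorem T_le_R1 (U : Subgroup G) : σ.T U ≤ σ.R1 U := fun _ h =>
  subset_closure (σ.T_subset_D U h)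

theorem Y_le_R {U : Subgroup G} (hY : σ.Y ≤ U) : σ.Y ≤ σ.R U := fun y hy =>
  ⟨show σ.q y ∈ jay 0 ((σ.Up U).map σ.q) by rw [σ.q_eq_one.mpr hy]; exact one_mem _, σ.Y_le_Up hY hy⟩

variable [Finite G]

/-- The four structural components of the key. -/
noncomputable def key4 (U : Subgroup G) : ℕ ×ₗ ℕ ×ₗ ℕ ×ₗ ℕ :=
  toLex (mab ((σ.Up U).map σ.q), toLex (Nat.card (σ.R U), toLex (Nat.card (σ.T U),
    Nat.card (σ.D U))))

/-- The key by which failing subgroups are compared. -/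
noncomputable def key (U : Subgroup G) : (ℕ ×ₗ ℕ ×ₗ ℕ ×ₗ ℕ) ×ₗ ℕ :=
  toLex (σ.key4 U, Nat.card U)

theorem Up_mono {U V : Subgroup G} (h : U ≤ V) : σ.Up U ≤ σ.Up V := inf_le_inf_right _ h

theorem T_mono {U V : Subgroup G} (h : U ≤ V) : σ.T U ≤ σ.T V :=
  sSup_le_sSup fun _ hA => ⟨hA.1.trans (σ.Up_mono h), hA.2⟩

theorem key4_spec {U V : Subgroup G} (h : U ≤ V) :
    σ.key4 U < σ.key4 V ∨
      (σ.key4 U = σ.key4 V ∧ σ.R U = σ.R V ∧ σ.T U = σ.T V ∧ σ.B U = σ.B V ∧ σ.D U = σ.D V) := by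
  have hX : (σ.Up U).map σ.q ≤ (σ.Up V).map σ.q := map_mono (σ.Up_mono h)
  rcases (mab_mono hX).lt_or_eq with h1 | h1
  · exact Or.inl (Prod.Lex.toLex_lt_toLex.mpr (Or.inl h1))
  have hR : σ.R U ≤ σ.R V := inf_le_inf (comap_mono (jay_mono hX h1)) (σ.Up_mono h)
  rcases (Nat.card_mono (Set.toFinite _) hR).lt_or_eq with h2 | h2
  · exact Or.inl (Prod.Lex.toLex_lt_toLex.mpr (Or.inr ⟨h1, Prod.Lex.toLex_lt_toLex.mpr (Or.inl h2)⟩))
  replace h2 : σ.R U = σ.R V := eq_of_le_of_card_ge hR h2.ge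
  rcases (Nat.card_mono (Set.toFinite _) (σ.T_mono h)).lt_or_eq with h3 | h3
  · exact Or.inl (Prod.Lex.toLex_lt_toLex.mpr (Or.inr ⟨h1, Prod.Lex.toLex_lt_toLex.mpr
      (Or.inr ⟨by rw [h2], Prod.Lex.toLex_lt_toLex.mpr (Or.inl h3)⟩)⟩))
  replace h3 : σ.T U = σ.T V := eq_of_le_of_card_ge (σ.T_mono h) h3.ge
  have hB : σ.B U = σ.B V := by
    ext b
    show _ ∧ _ ↔ _ ∧ _
    rw [h2, h3]
  have hD : σ.D U ⊆ σ.D V := fun u hu => ⟨h hu.1, hB ▸ hu.2⟩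
  rcases (Nat.card_mono (Set.toFinite _) hD).lt_or_eq with h4 | h4
  · exact Or.inl (Prod.Lex.toLex_lt_toLex.mpr (Or.inr ⟨h1, Prod.Lex.toLex_lt_toLex.mpr
      (Or.inr ⟨by rw [h2], Prod.Lex.toLex_lt_toLex.mpr (Or.inr ⟨by rw [h3], h4⟩)⟩)⟩))
  replace h4 : σ.D U = σ.D V := Set.eq_of_subset_of_ncard_le hD
    (by rw [← Nat.card_coe_set_eq, ← Nat.card_coe_set_eq, h4]) (Set.toFinite _)
  refine Or.inr ⟨?_, h2, h3, hB, h4⟩
  simp only [key4, h1, h2, h3, h4]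

theorem key_lt_of_lt {U V : Subgroup G} (h : U < V) : σ.key U < σ.key V := by
  rcases σ.key4_spec h.le with h1 | ⟨h1, -⟩
  · exact Prod.Lex.toLex_lt_toLex.mpr (Or.inl h1)
  · exact Prod.Lex.toLex_lt_toLex.mpr (Or.inr ⟨h1, Set.ncard_lt_ncard
      (SetLike.coe_ssubset_coe.mpr h) |> fun h' => by
        simpa only [← Nat.card_coe_set_eq, SetLike.coe_sort_coe] using h'⟩)

/-! ### Conjugation -/

theorem cj_centralizer_Y (g : G) :
    g *• Subgroup.centralizer (σ.Y : Set G) = Subgroup.centralizer (σ.Y : Set G) :=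
  cj_eq_of_mem_normalizer ((normalizer_eq_top (H := Subgroup.centralizer (σ.Y : Set G))).symm ▸
    mem_top g)

theorem Up_cj (g : G) (U : Subgroup G) : σ.Up (g *• U) = g *• σ.Up U := by
  rw [Up, Up, cj_inf, cj_centralizer_Y]

theorem map_q_cj (g : G) (X : Subgroup G) :
    (g *• X).map σ.q = (X.map σ.q).map (MulAut.conj (σ.q g)).toMonoidHom := by
  rw [Subgroup.map_map, Subgroup.map_map]
  congr 1

theorem comap_q_cj (g : G) (W : Subgroup (G ⧸ σ.Y)) :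
    (W.map (MulAut.conj (σ.q g)).toMonoidHom).comap σ.q = g *• W.comap σ.q := by
  ext x
  rw [mem_comap, Subgroup.mem_map_equiv, mem_cj, mem_comap, map_mul, map_mul, map_inv]
  simp [MulAut.conj_symm_apply]

theorem R_cj (g : G) (U : Subgroup G) : σ.R (g *• U) = g *• σ.R U := by
  rw [R, R, Up_cj, map_q_cj, jay_map, comap_q_cj, cj_inf]

theorem T_cj_le (g : G) (U : Subgroup G) : g *• σ.T U ≤ σ.T (g *• U) := by
  rw [map_le_iff_le_comap]
  refine sSup_le fun A hA => map_le_iff_le_comap.mp (le_sSup ?_)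
  haveI := hA.2.1
  exact ⟨σ.Up_cj g U ▸ cj_mono g hA.1, (isExpAbelian_map _ ⟨hA.2.1, fun a _ => pow_zero a⟩).1,
    (card_cj g A).trans hA.2.2⟩

theorem T_cj (g : G) (U : Subgroup G) : σ.T (g *• U) = g *• σ.T U := by
  refine le_antisymm ?_ (σ.T_cj_le g U)
  have h := σ.T_cj_le g⁻¹ (g *• U)
  rw [cj_inv_cj] at h
  rw [← cj_cj_inv g (σ.T (g *• U))]
  exact cj_mono g h

theorem mem_B_cj {g : G} {U : Subgroup G} {b : G} (hb : b ∈ σ.B U) :
    g * b * g⁻¹ ∈ σ.B (g *• U) := by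
  obtain ⟨b1, b2, b3, b4⟩ := hb
  refine ⟨σ.R_cj g U ▸ conj_mem_cj g b1, ?_, ?_, ?_⟩
  · refine mem_centralizer_iff.mpr ?_
    rw [R_cj]
    rintro _ ⟨_, ⟨r, hr, rfl⟩, rfl⟩
    have h := mem_centralizer_iff.mp b2 _ (mem_map_of_mem σ.q hr)
    show σ.q (g * r * g⁻¹) * σ.q (g * b * g⁻¹) = σ.q (g * b * g⁻¹) * σ.q (g * r * g⁻¹)
    simp only [map_mul, map_inv]
    calc _ = σ.q g * (σ.q r * σ.q b) * (σ.q g)⁻¹ := by group
      _ = _ := by rw [h]; group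
  · rw [map_mul, map_mul, map_inv, conj_pow, b3, mul_one, mul_inv_cancel]
  · refine mem_centralizer_iff.mpr ?_
    rw [T_cj]
    rintro _ ⟨t, ht, rfl⟩
    have h := mem_centralizer_iff.mp b4 t ht
    show g * t * g⁻¹ * (g * b * g⁻¹) = g * b * g⁻¹ * (g * t * g⁻¹)
    calc _ = g * (t * b) * g⁻¹ := by group
      _ = _ := by rw [h]; group

theorem B_cj (g : G) (U : Subgroup G) : σ.B (g *• U) = g *• σ.B U := by
  refine le_antisymm (fun b hb => ?_) ?_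
  · have h := σ.mem_B_cj (g := g⁻¹) hb
    rw [cj_inv_cj, inv_inv] at h
    exact mem_cj.mpr h
  · rintro _ ⟨b, hb, rfl⟩
    exact σ.mem_B_cj hb

theorem quad_cj {g : G} {B : Subgroup G} {u : G} (h : σ.Quad B u) :
    σ.Quad (g *• B) (g * u * g⁻¹) := by
  rintro _ ⟨b, hb, rfl⟩
  show ⁅⁅g * b * g⁻¹, g * u * g⁻¹⁆, g * u * g⁻¹⁆ ∈ σ.Y
  rw [show ⁅⁅g * b * g⁻¹, g * u * g⁻¹⁆, g * u * g⁻¹⁆ = g * ⁅⁅b, u⁆, u⁆ * g⁻¹ by
    simp only [commutatorElement_def]; group]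
  exact σ.normal.conj_mem _ (h b hb) g

theorem mem_D_cj {g : G} {U : Subgroup G} {u : G} (hu : u ∈ σ.D U) :
    g * u * g⁻¹ ∈ σ.D (g *• U) :=
  ⟨conj_mem_cj g hu.1, σ.B_cj g U ▸ σ.quad_cj hu.2⟩

theorem R1_cj_le (g : G) (U : Subgroup G) : g *• σ.R1 U ≤ σ.R1 (g *• U) := by
  rw [R1, MonoidHom.map_closure]
  refine closure_mono ?_
  rintro _ ⟨u, hu, rfl⟩
  exact σ.mem_D_cj hu

theorem R1_cj (g : G) (U : Subgroup G) : σ.R1 (g *• U) = g *• σ.R1 U := by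
  refine le_antisymm ?_ (σ.R1_cj_le g U)
  have h := σ.R1_cj_le g⁻¹ (g *• U)
  rw [cj_inv_cj] at h
  rw [← cj_cj_inv g (σ.R1 (g *• U))]
  exact cj_mono g h

theorem card_D_cj_le (g : G) (U : Subgroup G) : Nat.card (σ.D U) ≤ Nat.card (σ.D (g *• U)) :=
  Nat.card_le_card_of_injective (fun u => ⟨g * u.1 * g⁻¹, σ.mem_D_cj u.2⟩) fun a b h =>
    Subtype.ext (mul_left_cancel (mul_right_cancel (congrArg Subtype.val h)))

theorem key_cj (g : G) (U : Subgroup G) : σ.key (g *• U) = σ.key U := by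
  have hD : Nat.card (σ.D (g *• U)) = Nat.card (σ.D U) := by
    refine le_antisymm ?_ (σ.card_D_cj_le g U)
    have h := σ.card_D_cj_le g⁻¹ (g *• U)
    rwa [cj_inv_cj] at h
  have h1 : mab ((σ.Up (g *• U)).map σ.q) = mab ((σ.Up U).map σ.q) := by
    rw [Up_cj, map_q_cj, mab_map]
  have h2 : Nat.card (σ.R (g *• U)) = Nat.card (σ.R U) := by rw [R_cj, card_cj]
  have h3 : Nat.card (σ.T (g *• U)) = Nat.card (σ.T U) := by rw [T_cj, card_cj]
  simp only [key, key4, h1, h2, h3, hD, card_cj]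

end Setting

end CfsgLib.LocalEven.ZJFailure
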