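import Cfsg.Agent.LocalEven.ZJFailure.Basic

/-!
# Failure of fusion control by `Z(J(S))`: the strongly embedded configuration

A failing subgroup of largest key gives a `p`-subgroup `R1` and an element `x` of its normaliser
which is quadratic on a section `B/Y` of `R1` and whose conjugates behave as in a strongly embedded
subgroup.
-/

set_option autoImplicit false
set_option linter.unusedSectionVars false

namespace CfsgLib.LocalEven.ZJFailure

open Subgroup CfsgLib.ConjFunctor CfsgLib.OddOrder.ZJ CfsgLib.LocalEvenBasic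
open scoped commutatorElement

variable {p : ℕ} {G : Type*} [Group G]

/-- The output of the reduction. -/
structure Config (σ : Setting p G) where
  /-- The subgroup whose normaliser is studied. -/
  R : Subgroup G
  /-- The subgroup carrying the module. -/
  B : Subgroup G
  /-- A quadratic element. -/
  x : G
  /-- An element not acting like `N(Z)`. -/
  n : G
  R_p : IsPGroup p R
  B_le : B ≤ R
  Y_le : σ.Y ≤ B
  z_mem : σ.z ∈ B
  B_pow : ∀ b ∈ B, σ.q b ^ p = 1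
  B_comm : ∀ b ∈ B, ∀ b' ∈ B, σ.q b * σ.q b' = σ.q b' * σ.q b
  B_norm : Subgroup.normalizer (R : Set G) ≤ Subgroup.normalizer (B : Set G)
  x_mem : x ∈ σ.S
  x_norm : x ∈ Subgroup.normalizer (R : Set G)
  x_quad : ∀ b ∈ B, ⁅⁅b, x⁆, x⁆ ∈ σ.Y
  n_norm : n ∈ Subgroup.normalizer (R : Set G)
  n_bad : ¬ σ.Good R (n * x * n⁻¹)
  stab : ∀ g ∈ Subgroup.normalizer (R : Set G), ⁅g, σ.z⁆ ∈ σ.Y → σ.Good R g
  se : ∀ P : Subgroup G, IsPGroup p P → P ≤ Subgroup.normalizer (R : Set G) → x ∈ P →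
    ∀ g ∈ P, σ.Good R g
  act : ∀ P : Subgroup G, IsPGroup p P → P ≤ Subgroup.normalizer (R : Set G) → x ∈ P → R ≤ P →
    ∀ g ∈ Subgroup.normalizer (R : Set G), g *• P = P →
    σ.Good R g ∧ ∃ m : G, m *• P ≤ σ.S ∧ σ.Good (m *• P) (m * g * m⁻¹)

namespace Setting

variable [Finite G] [Fact p.Prime] (σ : Setting p G)

/-- A map fixing `z` modulo `Y` up to `N(Z)` is induced by `N(Z)`. -/
theorem good_of_z {U : Subgroup G} {g h : G} (hU : U ≤ σ.S) (hg : g *• U ≤ σ.S) (hh : h ∈ σ.H)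
    (hz : ⁅h⁻¹ * g, σ.z⁆ ∈ σ.Y) : σ.Good U g := by
  let K1 : Subgroup G :=
    { carrier := {k | ⁅k, σ.z⁆ ∈ σ.Y}
      one_mem' := by simp [σ.Y.one_mem]
      mul_mem' := fun {a b} ha hb => by
        show ⁅a * b, σ.z⁆ ∈ σ.Y
        rw [show ⁅a * b, σ.z⁆ = a * ⁅b, σ.z⁆ * a⁻¹ * ⁅a, σ.z⁆ by
          simp only [commutatorElement_def]; group]
        exact mul_mem (σ.normal.conj_mem _ hb a) ha
      inv_mem' := fun {a} ha => by
        show ⁅a⁻¹, σ.z⁆ ∈ σ.Y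
        rw [show ⁅a⁻¹, σ.z⁆ = a⁻¹ * ⁅a, σ.z⁆⁻¹ * a⁻¹⁻¹ by simp only [commutatorElement_def]; group]
        exact σ.normal.conj_mem _ (inv_mem ha) _ }
  have hSK : σ.S ≤ K1 := fun s hs => σ.comm_mem_Y_symm (σ.z_central s hs)
  set n' := h⁻¹ * g with hn'
  have hQ2 : n' *• U ≤ σ.H ⊓ K1 := by
    refine le_inf ?_ ?_
    · rw [hn', ← cj_cj]
      refine (cj_mono h⁻¹ (hg.trans σ.le_norm)).trans (cj_self_of_mem (inv_mem hh)).le
    · exact (cj_mono n' (hU.trans hSK)).trans (cj_self_of_mem (show n' ∈ K1 from hz)).le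
  have hSyl : IsSylowIn p σ.S (σ.H ⊓ K1) := σ.sylow.of_le (le_inf σ.le_norm hSK) le_top
  obtain ⟨c, hc, hcle⟩ := hSyl.exists_cj_le hQ2 (isPGroup_cj _ (σ.sylow.2.1.to_le hU))
  obtain ⟨h2, hh2, hact⟩ := σ.controlled U hU (c * n') (by rw [← cj_cj]; exact hcle)
    (mul_mem hc.2 hz : c * n' ∈ K1)
  refine ⟨h * c⁻¹ * h2, mul_mem (mul_mem hh (inv_mem hc.1)) hh2, fun u hu => ?_⟩
  calc h * c⁻¹ * h2 * u * (h * c⁻¹ * h2)⁻¹ = h * c⁻¹ * (h2 * u * h2⁻¹) * (h * c⁻¹)⁻¹ := by group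
    _ = h * c⁻¹ * (c * n' * u * (c * n')⁻¹) * (h * c⁻¹)⁻¹ := by rw [hact u hu]
    _ = _ := by rw [hn']; group

/-- A failing pair. -/
def Bad (U : Subgroup G) (g : G) : Prop :=
  σ.Y ≤ U ∧ U ≤ σ.S ∧ g *• U ≤ σ.S ∧ ¬ σ.Good U g

theorem exists_max : ∃ U g, σ.Bad U g ∧ ∀ U' g', σ.Bad U' g' → σ.key U' ≤ σ.key U := by
  classical
  obtain ⟨U, hU, g, hg, hbad⟩ := σ.failing
  have hYS : σ.Y ≤ σ.S := σ.Y_le.trans σ.Z_le
  have hb : σ.Bad (U ⊔ σ.Y) g := by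
    refine ⟨le_sup_right, sup_le hU hYS, ?_, fun h => hbad (h.mono σ le_sup_left)⟩
    rw [Subgroup.map_sup]
    exact sup_le hg ((cj_le_iff.mpr fun y hy => σ.normal.conj_mem y hy g).trans hYS)
  let K : Set (Subgroup G × G) := {P | σ.Bad P.1 P.2}
  obtain ⟨P₀, h₀, hmax⟩ := Set.Finite.exists_maximalFor (fun P : Subgroup G × G => σ.key P.1)
    K (Set.toFinite K) ⟨(U ⊔ σ.Y, g), hb⟩
  refine ⟨P₀.1, P₀.2, h₀, fun U' g' h' => ?_⟩
  rcases le_total (σ.key U') (σ.key P₀.1) with h | h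
  · exact h
  · exact hmax (j := (U', g')) h' h

theorem T_S : σ.T σ.S =
    sSup {A : Subgroup G | A ≤ σ.S ∧ IsMulCommutative A ∧ Nat.card A = σ.dS} := by
  refine le_antisymm (sSup_le_sSup fun A hA => ⟨hA.1.trans (σ.Up_le _), hA.2⟩)
    (sSup_le fun A hA => le_sSup ⟨le_inf hA.1 ?_, hA.2⟩)
  intro a ha
  exact mem_centralizer_iff.mpr fun y hy =>
    (mem_centralizer_iff.mp (σ.cent A hA.1 hA.2.1 hA.2.2 (σ.Y_le hy)) a ha).symm

theorem mem_H_of_T {g : G} (h : g *• σ.T σ.S = σ.T σ.S) : g ∈ σ.H :=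
  σ.norm_T g (by rw [← σ.T_S]; exact h)

variable {U₀ : Subgroup G}

/-- The maximality in usable form. -/
theorem good_of_key (hmax : ∀ U' g', σ.Bad U' g' → σ.key U' ≤ σ.key U₀) {V : Subgroup G} {g : G}
    (hY : σ.Y ≤ V) (hV : V ≤ σ.S) (hg : g *• V ≤ σ.S) (hk : σ.key U₀ < σ.key V) : σ.Good V g := by
  by_contra h
  exact (hmax V g ⟨hY, hV, hg, h⟩).not_gt hk

/-- A candidate: an extremal failing subgroup of largest key. -/
def Cand (U₀ Q : Subgroup G) (n : G) : Prop :=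
  σ.Y ≤ Q ∧ Q ≤ σ.S ∧ Extremal p σ.S Q ∧ n ∈ Subgroup.normalizer (Q : Set G) ∧ ¬ σ.Good Q n ∧
    σ.key Q = σ.key U₀

theorem exists_cand {g : G} (hbad : σ.Bad U₀ g)
    (hmax : ∀ U' g', σ.Bad U' g' → σ.key U' ≤ σ.key U₀) : ∃ Q n, σ.Cand U₀ Q n := by
  obtain ⟨hY, hU, hgU, hng⟩ := hbad
  have hUS : U₀ < σ.S := by
    refine lt_of_le_of_ne hU fun he => hng ?_
    subst he
    refine σ.good_of_mem (σ.mem_H_of_T ?_) _
    rw [← σ.T_cj, eq_of_le_of_card_ge hgU (card_cj g σ.S).ge]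
  have hYcj : ∀ a : G, σ.Y ≤ a *• U₀ := fun a y hy =>
    mem_cj.mpr (hY (by simpa using σ.normal.conj_mem y hy a⁻¹))
  have hgood : ∀ V a, σ.Y ≤ V → V < σ.S → σ.key V = σ.key U₀ →
      a *• (σ.S ⊓ Subgroup.normalizer (V : Set G)) ≤ σ.S → σ.Good V a := fun V a h1 h2 h3 h4 =>
    (σ.good_of_key hmax (h1.trans (le_inf h2.le le_normalizer)) inf_le_left h4
      (h3 ▸ σ.key_lt_of_lt (lt_inf_normalizer σ.sylow.2.1 h2))).mono σ
        (le_inf h2.le le_normalizer)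
  obtain ⟨a, ha1, ha2, ha3⟩ := exists_extremal_conj σ.sylow hU
  obtain ⟨b, hb1, hb2⟩ := exists_conj_to_extremal σ.sylow.2.1 ha2 (T := g *• U₀)
    ⟨a * g⁻¹, by rw [cj_cj, inv_mul_cancel_right]⟩
  have hlt : g *• U₀ < σ.S := lt_of_le_of_ne hgU fun he => by
    have h1 := card_cj g U₀
    rw [he] at h1
    exact hUS.ne (eq_of_le_of_card_ge hU h1.le)
  have hga := hgood U₀ a hY hUS rfl ha3
  have hgb := hgood (g *• U₀) b (hYcj g) hlt (σ.key_cj g U₀) (hb2.trans inf_le_left)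
  have hn : b * g * a⁻¹ ∈ Subgroup.normalizer ((a *• U₀ : Subgroup G) : Set G) := by
    rw [mem_normalizer_iff_cj, ← cj_cj, cj_inv_cj, ← cj_cj, hb1]
  refine ⟨a *• U₀, b * g * a⁻¹, hYcj a, ha1, ha2, hn, fun h => hng ?_, σ.key_cj a U₀⟩
  have h1 : σ.Good U₀ (b * g) := by
    have h2 := hga.mul σ h
    rwa [inv_mul_cancel_right] at h2
  have h2 := h1.mul σ (g' := b⁻¹) (by
    rw [← cj_cj]
    exact hgb.inv σ)
  rwa [inv_mul_cancel_left] at h2

variable {Q : Subgroup G} {n : G}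

/-- In a candidate the elements of `N_S(Q)` centralising `Y` and `Q/Y` lie in `Q`; so `z ∈ Q`. -/
theorem z_mem_cand (hc : σ.Cand U₀ Q n)
    (hmax : ∀ U' g', σ.Bad U' g' → σ.key U' ≤ σ.key U₀) : σ.z ∈ Q := by
  classical
  obtain ⟨hY, hQ, hext, hn, hng, hkey⟩ := hc
  set L := Subgroup.normalizer (Q : Set G) with hL
  set C := L ⊓ Subgroup.centralizer (σ.Y : Set G) ⊓
    (Subgroup.centralizer ((Q.map σ.q : Subgroup _) : Set (G ⧸ σ.Y))).comap σ.q with hC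
  have hCn : L ≤ Subgroup.normalizer (C : Set G) := fun g hg => by
    refine mem_normalizer_of_forall_conj_mem fun c hcm =>
      mem_inf.mpr ⟨mem_inf.mpr ⟨?_, ?_⟩, ?_⟩
    · exact mul_mem (mul_mem hg hcm.1.1) (inv_mem hg)
    · exact (inferInstance : (Subgroup.centralizer (σ.Y : Set G)).Normal).conj_mem c hcm.1.2 g
    · refine mem_centralizer_iff.mpr ?_
      rintro _ ⟨u, hu, rfl⟩
      have hu' : g⁻¹ * u * g ∈ Q := by
        simpa using (mem_normalizer_iff.mp (inv_mem hg) u).mp hu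
      have h := mem_centralizer_iff.mp hcm.2 _ (mem_map_of_mem σ.q hu')
      simp only [map_mul, map_inv] at h ⊢
      calc σ.q u * (σ.q g * σ.q c * (σ.q g)⁻¹)
          = σ.q g * ((σ.q g)⁻¹ * σ.q u * σ.q g * σ.q c) * (σ.q g)⁻¹ := by group
        _ = _ := by rw [h]; group
  have hsyl := (extremal_iff σ.sylow.2.1).mp hext
  set R' := σ.S ⊓ L ⊓ C with hR'
  have hR : IsSylowIn p R' C := hsyl.inf_of_normal (inf_le_left.trans inf_le_left) hCn
  -- elements of `C` act on `Q` as `p`-elements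
  let CQ := (Subgroup.centralizer (Q : Set G)).subgroupOf C
  haveI hCQn : CQ.Normal := ⟨fun a ha c => by
    refine mem_centralizer_iff.mpr fun u hu => ?_
    have hu' : (c : G)⁻¹ * u * (c : G) ∈ Q := by
      simpa using (mem_normalizer_iff.mp (inv_mem c.2.1.1) u).mp hu
    have h := mem_centralizer_iff.mp ha _ hu'
    simp only [Subgroup.coe_mul, Subgroup.coe_inv, Subgroup.coe_subtype] at h ⊢
    calc u * ((c : G) * a * (c : G)⁻¹) = (c : G) * ((c : G)⁻¹ * u * (c : G) * a) * (c : G)⁻¹ := by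
          group
      _ = _ := by rw [h]; group⟩
  obtain ⟨e, he⟩ := IsPGroup.iff_card.mp (σ.sylow.2.1.to_le (σ.Y_le.trans σ.Z_le))
  have hpC : IsPGroup p (↥C ⧸ CQ) := by
    intro c'
    obtain ⟨c, rfl⟩ := QuotientGroup.mk'_surjective CQ c'
    refine ⟨e, ?_⟩
    rw [← map_pow, QuotientGroup.mk'_apply, QuotientGroup.eq_one_iff]
    refine mem_centralizer_iff.mpr fun u hu => ?_
    set y := ⁅(c : G), u⁆ with hy
    have hyY : y ∈ σ.Y :=
      σ.comm_mem_Y_iff.mpr (mem_centralizer_iff.mp c.2.2 _ (mem_map_of_mem σ.q hu)).symm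
    have hcy : (c : G) * y = y * (c : G) :=
      (mem_centralizer_iff.mp c.2.1.2 y hyY).symm
    have key : ∀ i : ℕ, (c : G) ^ i * u * ((c : G) ^ i)⁻¹ = y ^ i * u := by
      intro i
      induction i with
      | zero => simp
      | succ i ih =>
        have e2 : (c : G) * u * (c : G)⁻¹ = y * u := by rw [hy, commutatorElement_def]; group
        have hci : Commute (c : G) (y ^ i) := (show Commute (c : G) y from hcy).pow_right i
        calc (c : G) ^ (i + 1) * u * ((c : G) ^ (i + 1))⁻¹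
            = (c : G) * ((c : G) ^ i * u * ((c : G) ^ i)⁻¹) * (c : G)⁻¹ := by
              rw [pow_succ']; group
          _ = (c : G) * (y ^ i * u) * (c : G)⁻¹ := by rw [ih]
          _ = y ^ i * ((c : G) * u * (c : G)⁻¹) := by rw [← mul_assoc, hci.eq]; group
          _ = _ := by rw [e2, ← mul_assoc, ← pow_succ]
    have h1 := key (p ^ e)
    rw [show y ^ p ^ e = 1 by
      rw [← he]; exact congrArg Subtype.val (pow_card_eq_one' (x := (⟨y, hyY⟩ : σ.Y))), one_mul,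
      mul_inv_eq_iff_eq_mul] at h1
    show u * ((c ^ p ^ e : ↥C) : G) = ((c ^ p ^ e : ↥C) : G) * u
    rw [SubgroupClass.coe_pow]
    exact h1.symm
  have hdec : ∀ c ∈ C, ∃ r ∈ R', ∃ c₀ ∈ Subgroup.centralizer (Q : Set G), c = r * c₀ := by
    intro c hcC
    haveI : Finite (↥C ⧸ CQ) := Quotient.finite _
    let P : Sylow p ↥C := (hR.2.1.comap_subtype (K := C)).toSylow hR.2.2
    have hPq : ((P.mapSurjective (QuotientGroup.mk'_surjective CQ) : Sylow p (↥C ⧸ CQ)) :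
        Subgroup (↥C ⧸ CQ)) = ⊤ :=
      ((P.mapSurjective (QuotientGroup.mk'_surjective CQ)).3
        (hpC.to_subgroup ⊤) le_top).symm
    have hm : QuotientGroup.mk' CQ ⟨c, hcC⟩ ∈
        ((P.mapSurjective (QuotientGroup.mk'_surjective CQ) : Sylow p (↥C ⧸ CQ)) :
          Subgroup (↥C ⧸ CQ)) := hPq ▸ mem_top _
    rw [Sylow.coe_mapSurjective] at hm
    obtain ⟨r, hr, hrc⟩ := hm
    refine ⟨r, hr, (r : G)⁻¹ * c, ?_, (mul_inv_cancel_left _ _).symm⟩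
    exact mem_subgroupOf.mp (QuotientGroup.eq.mp hrc)
  -- `R' ≤ Q`
  have hRQ : R' ≤ Q := by
    by_contra hnot
    apply hng
    obtain ⟨c, hcC, hcj⟩ := hR.exists_cj_eq (T' := n *• R') (by
      have h := hR.cj n
      rwa [cj_eq_of_mem_normalizer (hCn hn)] at h)
    obtain ⟨r, hr, c₀, hc₀, hrc⟩ := hdec c⁻¹ (inv_mem hcC)
    set n₁ := c * n with hn₁
    have hn₁N : n₁ ∈ L := mul_mem hcC.1.1 hn
    have hn₁R : n₁ *• R' = R' := by rw [hn₁, ← cj_cj, hcj]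
    have hQR : Q < Q ⊔ R' := lt_of_le_of_ne le_sup_left fun h => hnot (h ▸ le_sup_right)
    have hsup : Q ⊔ R' ≤ σ.S := sup_le hQ (inf_le_left.trans inf_le_left)
    obtain ⟨h, hh, hact⟩ := σ.good_of_key hmax (g := n₁) (hY.trans le_sup_left) hsup
      (by rw [Subgroup.map_sup, cj_eq_of_mem_normalizer hn₁N, hn₁R]; exact hsup)
      (hkey ▸ σ.key_lt_of_lt hQR)
    refine ⟨r * h, mul_mem (σ.le_norm hr.1.1) hh, fun u hu => ?_⟩
    have hu' : n₁ * u * n₁⁻¹ ∈ Q := (mem_normalizer_iff.mp hn₁N u).mp hu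
    have e1 : n = r * c₀ * n₁ := by rw [← hrc, hn₁, inv_mul_cancel_left]
    have e2 := mem_centralizer_iff.mp hc₀ _ hu'
    calc r * h * u * (r * h)⁻¹ = r * (h * u * h⁻¹) * r⁻¹ := by group
      _ = r * (n₁ * u * n₁⁻¹) * r⁻¹ := by rw [hact u (mem_sup_left hu)]
      _ = r * (n₁ * u * n₁⁻¹ * c₀ * c₀⁻¹) * r⁻¹ := by group
      _ = r * (c₀ * (n₁ * u * n₁⁻¹) * c₀⁻¹) * r⁻¹ := by rw [e2]
      _ = _ := by rw [e1]; group
  have hzQ : σ.z ∈ L := mem_normalizer_of_forall_conj_mem fun u hu => by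
    rw [show σ.z * u * σ.z⁻¹ = ⁅σ.z, u⁆ * u by rw [commutatorElement_def]; group]
    exact mul_mem (hY (σ.z_central u (hQ hu))) hu
  refine hRQ ⟨⟨σ.Z_le σ.z_mem, hzQ⟩, ⟨hzQ, σ.z_mem_centralizer_Y⟩, ?_⟩
  refine mem_centralizer_iff.mpr ?_
  rintro _ ⟨u, hu, rfl⟩
  exact (σ.comm_mem_Y_iff.mp (σ.z_central u (hQ hu))).symm

theorem z_mem_B (hY : σ.Y ≤ Q) (hQ : Q ≤ σ.S) (hz : σ.z ∈ Q) : σ.z ∈ σ.B Q := by
  have hzU : σ.z ∈ σ.Up Q := ⟨hz, σ.z_mem_centralizer_Y⟩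
  have hzR : σ.z ∈ σ.R Q := by
    refine ⟨?_, hzU⟩
    obtain ⟨A, hA⟩ := maxIn_nonempty ((σ.Up Q).map σ.q)
    refine le_sSup (α := Subgroup (G ⧸ σ.Y)) hA
      (mem_of_centralizes hA (mem_map_of_mem σ.q hzU) (pow_zero _) fun a ha => ?_)
    obtain ⟨u, hu, rfl⟩ := hA.1 ha
    exact (σ.comm_mem_Y_iff.mp (σ.z_central u (hQ hu.1))).symm
  refine ⟨hzR, mem_centralizer_iff.mpr ?_, ?_, mem_centralizer_iff.mpr ?_⟩
  · rintro _ ⟨u, hu, rfl⟩
    exact (σ.comm_mem_Y_iff.mp (σ.z_central u (hQ (σ.R_le Q hu).1))).symm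
  · rw [← map_pow]; exact σ.q_eq_one.mpr σ.z_pow
  · intro t ht
    have hle : σ.T Q ≤ Subgroup.centralizer ({σ.z} : Set G) := sSup_le fun A hA a ha =>
      mem_centralizer_singleton_iff.mpr (mem_centralizer_iff.mp
        (σ.cent A ((hA.1.trans (σ.Up_le Q)).trans hQ) hA.2.1 hA.2.2 σ.z_mem) a ha)
    exact mem_centralizer_singleton_iff.mp (hle ht)

theorem key4_R1 (hY : σ.Y ≤ Q) :
    σ.Y ≤ σ.R1 Q ∧ σ.key4 (σ.R1 Q) = σ.key4 Q ∧ σ.R (σ.R1 Q) = σ.R Q ∧ σ.T (σ.R1 Q) = σ.T Q ∧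
      σ.B (σ.R1 Q) = σ.B Q ∧ σ.D (σ.R1 Q) = σ.D Q := by
  have hle := σ.R1_le Q
  have hX : ((σ.Up Q).map σ.q) ⊓ jay 0 ((σ.Up Q).map σ.q) ≤ (σ.Up (σ.R1 Q)).map σ.q := by
    rintro _ ⟨⟨u, hu, rfl⟩, hj⟩
    exact mem_map_of_mem σ.q ⟨σ.R_le_R1 Q ⟨hj, hu⟩, hu.2⟩
  refine ⟨(σ.Y_le_R hY).trans (σ.R_le_R1 Q), ?_⟩
  rcases σ.key4_spec hle with h | ⟨h0, hR, hT, hB, hD⟩
  · exfalso
    have hjle : jay 0 ((σ.Up Q).map σ.q) ≤ (σ.Up Q).map σ.q := jay_le 0 _
    obtain ⟨A, hA⟩ := maxIn_nonempty ((σ.Up Q).map σ.q)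
    have hm : mab ((σ.Up (σ.R1 Q)).map σ.q) = mab ((σ.Up Q).map σ.q) := by
      refine le_antisymm (mab_mono (map_mono (σ.Up_mono hle))) ?_
      obtain ⟨h1, h2, h3⟩ := mem_maxIn_iff.mp hA
      rw [← h3]
      exact card_le_mab (fun a ha => hX ⟨h1 ha, le_sSup (α := Subgroup (G ⧸ σ.Y)) hA ha⟩) h2
    have hj : jay 0 ((σ.Up (σ.R1 Q)).map σ.q) = jay 0 ((σ.Up Q).map σ.q) := by
      refine le_antisymm (jay_mono (map_mono (σ.Up_mono hle)) hm) (sSup_le fun C hC => le_sSup ?_)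
      obtain ⟨h1, h2, h3⟩ := mem_maxIn_iff.mp hC
      exact mem_maxIn_iff.mpr ⟨fun a ha => hX ⟨h1 ha, le_sSup (α := Subgroup (G ⧸ σ.Y)) hC ha⟩, h2,
        hm ▸ h3⟩
    have hR : σ.R (σ.R1 Q) = σ.R Q :=
      le_antisymm (inf_le_inf (comap_mono hj.le) (σ.Up_mono hle))
        fun r hr => ⟨show σ.q r ∈ jay 0 ((σ.Up (σ.R1 Q)).map σ.q) by rw [hj]; exact hr.1,
          σ.R_le_R1 Q hr, hr.2.2⟩
    have hT : σ.T (σ.R1 Q) = σ.T Q := by
      refine le_antisymm (σ.T_mono hle) (sSup_le fun A hA => le_sSup ⟨?_, hA.2⟩)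
      exact le_inf ((le_sSup (α := Subgroup G) hA).trans (σ.T_le_R1 Q)) (hA.1.trans inf_le_right)
    have hB : σ.B (σ.R1 Q) = σ.B Q := by
      ext b
      show _ ∧ _ ↔ _ ∧ _
      rw [hR, hT]
    have hD : σ.D (σ.R1 Q) = σ.D Q := by
      ext u
      exact ⟨fun hu => ⟨hle hu.1, hB ▸ hu.2⟩, fun hu => ⟨subset_closure hu, hB ▸ hu.2⟩⟩
    refine h.ne ?_
    simp only [key4, hm, hR, hT, hD]
  · exact ⟨h0, hR, hT, hB, hD⟩

/-- The key grows by adjoining a quadratic element. -/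
theorem key_lt_of_quad (hY : σ.Y ≤ Q) {V : Subgroup G} {u : G} (hV : σ.R1 Q ≤ V) (hu : u ∈ V)
    (hq : σ.Quad (σ.B Q) u) (hu' : u ∉ σ.R1 Q) : σ.key Q < σ.key V := by
  obtain ⟨-, h0, -, -, hB, hD⟩ := σ.key4_R1 hY
  rcases σ.key4_spec hV with h | ⟨-, -, -, hB', hD'⟩
  · exact Prod.Lex.toLex_lt_toLex.mpr (Or.inl (h0 ▸ h))
  · exfalso
    have hm : u ∈ σ.D V := ⟨hu, by rw [← hB', hB]; exact hq⟩
    rw [← hD', hD] at hm
    exact hu' (subset_closure hm)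

/-- Some element of `N_S(R1 Q)` outside `R1 Q` is quadratic. -/
theorem exists_quad (hp : p ≠ 2) (hc : σ.Cand U₀ Q n) :
    ∃ x ∈ σ.S ⊓ Subgroup.normalizer (σ.R1 Q : Set G), σ.Quad (σ.B Q) x ∧ x ∉ σ.R1 Q := by
  classical
  by_contra hno
  push Not at hno
  obtain ⟨hY, hQ, -, hn, hng, -⟩ := hc
  obtain ⟨hY1, h04, hR, hT, hB, hD⟩ := σ.key4_R1 hY
  set R1 := σ.R1 Q with hR1
  set B := σ.B Q with hBd
  set S2 := σ.S ⊓ Subgroup.normalizer (R1 : Set G) with hS2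
  have hR1S2 : R1 ≤ S2 := le_inf ((σ.R1_le Q).trans hQ) le_normalizer
  have hBR1 : B ≤ R1 := (σ.B_le Q).trans (σ.R_le_R1 Q)
  have hBn : Subgroup.normalizer (R1 : Set G) ≤ Subgroup.normalizer (B : Set G) := fun g hg => by
    rw [mem_normalizer_iff_cj, ← hB, ← σ.B_cj, cj_eq_of_mem_normalizer hg]
  have hBU : B ≤ σ.Up S2 := fun b hb => ⟨hR1S2 (hBR1 hb), (σ.R_le Q (σ.B_le Q hb)).2⟩
  have hpS2 : IsPGroup p S2 := σ.sylow.2.1.to_inf_left
  have hp2 : ∀ {Γ : Type _} [Group Γ] (V : Subgroup Γ), IsPGroup p V →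
      ∀ v ∈ V, v * v = 1 → v = 1 := by
    intro Γ _ V hV v hv hv2
    obtain ⟨k, hk⟩ := hV ⟨v, hv⟩
    have h1 : v ^ p ^ k = 1 := congrArg Subtype.val hk
    have hcop : (2 : ℕ).Coprime (p ^ k) :=
      ((Nat.coprime_primes Nat.prime_two Fact.out).2 (Ne.symm hp)).pow_right k
    exact orderOf_eq_one_iff.1 (Nat.eq_one_of_dvd_coprimes hcop
      (orderOf_dvd_of_pow_eq_one ((pow_two v).trans hv2)) (orderOf_dvd_of_pow_eq_one h1))
  -- the Thompson subgroups modulo `Y`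
  set X := (σ.Up S2).map σ.q with hX
  set X1 := (σ.Up R1).map σ.q with hX1
  have hjay : ∀ A ∈ maxIn 0 X, A ≤ X1 := by
    by_contra hcon
    push Not at hcon
    obtain ⟨A₀, hA₀, hA₀n⟩ := hcon
    set W := B.map σ.q with hW
    obtain ⟨A, ⟨hA, hAn⟩, hmaxA⟩ := Set.Finite.exists_maximalFor
      (fun A : Subgroup (G ⧸ σ.Y) => Nat.card ↥(A ⊓ W))
      {A | A ∈ maxIn 0 X ∧ ¬ A ≤ X1} (Set.toFinite _) ⟨A₀, hA₀, hA₀n⟩
    have hAW : A ≤ Subgroup.normalizer (W : Set (G ⧸ σ.Y)) := by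
      intro a ha
      obtain ⟨u, hu, rfl⟩ := hA.1 ha
      refine mem_normalizer_of_forall_conj_mem ?_
      rintro _ ⟨b, hb, rfl⟩
      rw [← map_mul, ← map_inv, ← map_mul]
      exact mem_map_of_mem σ.q ((mem_normalizer_iff.mp (hBn hu.1.2) b).mp hb)
    have hcomm : ∀ u ∈ W, ∀ v ∈ W, ⁅u, v⁆ = 1 := by
      rintro _ ⟨b, hb, rfl⟩ _ ⟨b', hb', rfl⟩
      exact commutatorElement_eq_one_iff_mul_comm.mpr
        (σ.comm_mem_Y_iff.mp (σ.R_comm_B hb (σ.B_le Q hb')))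
    by_cases hWA : W ≤ Subgroup.normalizer (A : Set (G ⧸ σ.Y))
    · apply hAn
      intro a ha
      obtain ⟨u, hu, rfl⟩ := hA.1 ha
      refine mem_map_of_mem σ.q ⟨hno u hu.1 fun b hb => ?_, hu.2⟩
      rw [← σ.q_eq_one, map_commutatorElement, map_commutatorElement]
      exact commutatorElement_eq_one_iff_commute.mpr
        (CfsgLib.OddOrder.Quad.commute_commutator_of_abelian hA.2.1.1 hWA ha (mem_map_of_mem σ.q hb))
    · obtain ⟨w, hwW, hwA, hwstep⟩ := exists_step_element (p := p) (hpS2.to_le inf_le_left |>.map σ.q)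
        hA.1 (map_mono hBU) hAW hWA
      have hstep : Step A W w := ⟨hA.2.1.1, hAW, commutator_le.mpr fun u hu v hv => by
          rw [hcomm u hu v hv]; exact one_mem _,
        fun u hu v hv v' _ => by rw [hcomm u hu v hv]; exact Commute.one_left v', hwW, hwstep⟩
      obtain ⟨h1, h2, h3, h4, -, h6⟩ := hstep.replace
        (hp2 W ((σ.sylow.2.1.to_le ((σ.B_le Q).trans ((σ.R_le Q).trans
          ((σ.Up_le Q).trans hQ)))).map σ.q)) hwA
      have hA'X : replaceAt A w ≤ X := h6.trans (sup_le hA.1 (map_mono hBU))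
      have hA'max : replaceAt A w ∈ maxIn 0 X :=
        ⟨hA'X, ⟨h1, fun a _ => pow_zero a⟩, fun C hC hCe => (hA.2.2 C hC hCe).trans h2⟩
      have hlt : Nat.card ↥(A ⊓ W) < Nat.card ↥(replaceAt A w ⊓ W) :=
        Set.ncard_lt_ncard (SetLike.coe_ssubset_coe.2 h3) |> fun h => by
          simpa only [← Nat.card_coe_set_eq, SetLike.coe_sort_coe] using h
      have hA'1 : replaceAt A w ≤ X1 := by
        by_contra h
        exact absurd (hmaxA ⟨hA'max, h⟩ hlt.le) (not_le.2 hlt)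
      have hA'X1 : replaceAt A w ∈ maxIn 0 X1 :=
        ⟨hA'1, hA'max.2.1, fun C hC hCe => hA'max.2.2 C (hC.trans (map_mono (σ.Up_mono hR1S2))) hCe⟩
      refine hWA (fun v hv => h4 (mem_of_centralizes hA'max (map_mono hBU hv) (pow_zero _) ?_))
      intro a ha
      obtain ⟨b, hb, rfl⟩ := hv
      obtain ⟨u, hu, rfl⟩ := hA'1 ha
      refine mem_centralizer_iff.mp hb.2.1 _ (mem_map_of_mem σ.q ?_)
      rw [← hR]
      exact ⟨le_sSup (α := Subgroup (G ⧸ σ.Y)) hA'X1 ha, hu⟩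
  have hX1X : X1 ≤ X := map_mono (σ.Up_mono hR1S2)
  have hmX : maxIn 0 X1 = maxIn 0 X := maxIn_of_le hX1X (sSup_le hjay)
  have hRS2 : σ.R S2 = σ.R Q := by
    refine le_antisymm ?_ ?_
    · intro r hr
      rw [← hR]
      have h1 : σ.q r ∈ jay 0 X1 := by rw [jay, hmX]; exact hr.1
      obtain ⟨u, hu, he⟩ := jay_le 0 X1 h1
      have hyu : u⁻¹ * r ∈ σ.Y := by rw [← σ.q_eq_one, map_mul, map_inv, he, inv_mul_cancel]
      have hrU : r ∈ σ.Up R1 := by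
        rw [← mul_inv_cancel_left u r]
        exact mul_mem hu (σ.Y_le_Up hY1 hyu)
      exact ⟨h1, hrU⟩
    · intro r hr
      rw [← hR] at hr
      exact ⟨show σ.q r ∈ jay 0 X by rw [jay, ← hmX]; exact hr.1, σ.Up_mono hR1S2 hr.2⟩
  -- the abelian subgroups of order `d(S)`
  have hTS2 : σ.T S2 = σ.T Q := by
    rw [← hT]
    refine le_antisymm (sSup_le fun A₀ hA₀ => ?_) (σ.T_mono hR1S2)
    suffices hAR : A₀ ≤ R1 from le_sSup ⟨le_inf hAR (hA₀.1.trans inf_le_right), hA₀.2⟩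
    by_contra hA₀n
    obtain ⟨A, ⟨hA, hAn⟩, hmaxA⟩ := Set.Finite.exists_maximalFor
      (fun A : Subgroup G => Nat.card ↥(A ⊓ B))
      {A | (A ≤ σ.Up S2 ∧ IsMulCommutative A ∧ Nat.card A = σ.dS) ∧ ¬ A ≤ R1}
      (Set.toFinite _) ⟨A₀, hA₀, hA₀n⟩
    have hAS : A ≤ σ.S := (hA.1.trans (σ.Up_le _)).trans inf_le_left
    have hAmax : A ∈ maxIn 0 σ.S :=
      ⟨hAS, ⟨hA.2.1, fun a _ => pow_zero a⟩, fun C hC hCe => hA.2.2 ▸ σ.max_le C hC hCe.1⟩
    have hAB : A ≤ Subgroup.normalizer (B : Set G) := fun a ha => hBn (hA.1 ha).1.2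
    by_cases hBA : B ≤ Subgroup.normalizer (A : Set G)
    · exact hAn fun a ha => hno a (hA.1 ha).1 fun b hb => by
        rw [commutatorElement_eq_one_iff_commute.mpr
          (CfsgLib.OddOrder.Quad.commute_commutator_of_abelian hA.2.1 hBA ha hb)]
        exact one_mem _
    · obtain ⟨w, hwB, hwA, hwstep⟩ := exists_step_element (p := p) (hpS2.to_le inf_le_left)
        hA.1 hBU hAB hBA
      have hstep : Step A B w := by
        refine ⟨hA.2.1, hAB, commutator_le.mpr fun u hu v hv => ?_,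
          fun u hu v hv v' hv' => ?_, hwB, hwstep⟩
        · have hy := σ.R_comm_B hu (σ.B_le Q hv)
          refine mem_of_centralizes hAmax ((σ.Y_le.trans σ.Z_le) hy) (pow_zero _) fun a ha => ?_
          exact mem_centralizer_iff.mp (σ.cent A hAS hA.2.1 hA.2.2 (σ.Y_le hy)) a ha
        · exact mem_centralizer_iff.mp (σ.R_le Q (σ.B_le Q hv')).2 _ (σ.R_comm_B hu (σ.B_le Q hv))
      obtain ⟨h1, h2, h3, h4, -, h6⟩ := hstep.replace
        (hp2 B (σ.sylow.2.1.to_le (hBR1.trans (hR1S2.trans inf_le_left)))) hwA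
      have hA'U : replaceAt A w ≤ σ.Up S2 := h6.trans (sup_le hA.1 hBU)
      have hA'S : replaceAt A w ≤ σ.S := (hA'U.trans (σ.Up_le _)).trans inf_le_left
      have hA'c : Nat.card ↥(replaceAt A w) = σ.dS :=
        le_antisymm (σ.max_le _ hA'S h1) (hA.2.2 ▸ h2)
      have hA'max : replaceAt A w ∈ maxIn 0 σ.S :=
        ⟨hA'S, ⟨h1, fun a _ => pow_zero a⟩, fun C hC hCe => hA'c ▸ σ.max_le C hC hCe.1⟩
      have hlt : Nat.card ↥(A ⊓ B) < Nat.card ↥(replaceAt A w ⊓ B) :=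
        Set.ncard_lt_ncard (SetLike.coe_ssubset_coe.2 h3) |> fun h => by
          simpa only [← Nat.card_coe_set_eq, SetLike.coe_sort_coe] using h
      have hA'1 : replaceAt A w ≤ R1 := by
        by_contra h
        exact absurd (hmaxA ⟨⟨hA'U, h1, hA'c⟩, h⟩ hlt.le) (not_le.2 hlt)
      have hA'T : replaceAt A w ≤ σ.T Q := by
        rw [← hT]
        exact le_sSup ⟨le_inf hA'1 (hA'U.trans inf_le_right), h1, hA'c⟩
      refine hBA (fun v hv => h4 (mem_of_centralizes hA'max ((hBU hv).1.1) (pow_zero _) fun a ha => ?_))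
      exact mem_centralizer_iff.mp hv.2.2.2 a (hA'T ha)
  have hBS2 : σ.B S2 = B := by
    ext b
    show _ ∧ _ ↔ _ ∧ _
    rw [hRS2, hTS2]
  have hDS2 : σ.D S2 = σ.D Q := by
    refine Set.Subset.antisymm (fun u hu => ?_) fun u hu =>
      ⟨hR1S2 (subset_closure hu), by rw [hBS2]; exact hu.2⟩
    have hq : σ.Quad B u := hBS2 ▸ hu.2
    exact ⟨σ.R1_le Q (hno u hu.1 hq), hq⟩
  have hnorm : σ.S ⊓ Subgroup.normalizer (S2 : Set G) ≤ S2 := fun g hg => by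
    refine ⟨hg.1, mem_normalizer_iff_cj.mpr ?_⟩
    have h := σ.R1_cj g S2
    rw [cj_eq_of_mem_normalizer hg.2] at h
    have e : σ.R1 S2 = R1 := by rw [hR1, Setting.R1, Setting.R1, hDS2]
    rw [e] at h
    exact h.symm
  have hS2S : S2 = σ.S := eq_of_le_of_not_lt inf_le_left fun hlt =>
    (lt_inf_normalizer σ.sylow.2.1 hlt).not_ge hnorm
  refine hng (σ.good_of_mem (σ.mem_H_of_T ?_) Q)
  rw [← hS2S, hTS2, ← σ.T_cj, cj_eq_of_mem_normalizer hn]

/-- **The configuration.** -/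
theorem exists_config (hp : p ≠ 2) : Nonempty (Config σ) := by
  classical
  obtain ⟨U₀, g₀, hbad, hmax⟩ := σ.exists_max
  obtain ⟨Q₀, n₀, hc₀⟩ := σ.exists_cand hbad hmax
  obtain ⟨⟨Q, n⟩, hc, hbest⟩ := Set.Finite.exists_maximalFor
    (fun P : Subgroup G × G => Nat.card ↥(σ.S ⊓ Subgroup.normalizer (σ.R1 P.1 : Set G)))
    {P | σ.Cand U₀ P.1 P.2} (Set.toFinite _) ⟨(Q₀, n₀), hc₀⟩
  obtain ⟨x, hxS2, hxq, hxR⟩ := σ.exists_quad hp hc
  have hzQ := σ.z_mem_cand hc hmax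
  obtain ⟨hY, hQ, hext, hn, hng, hkey⟩ := hc
  obtain ⟨hY1, h04, hR, hT, hB, hD⟩ := σ.key4_R1 hY
  have hzB := σ.z_mem_B hY hQ hzQ
  set R1 := σ.R1 Q with hR1
  set B := σ.B Q with hBd
  set L2 := Subgroup.normalizer (R1 : Set G) with hL2
  set S2 := σ.S ⊓ L2 with hS2
  have hR1S : R1 ≤ σ.S := (σ.R1_le Q).trans hQ
  have hR1S2 : R1 ≤ S2 := le_inf hR1S le_normalizer
  have hBR1 : B ≤ R1 := (σ.B_le Q).trans (σ.R_le_R1 Q)
  have hBn : L2 ≤ Subgroup.normalizer (B : Set G) := fun g hg => by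
    rw [mem_normalizer_iff_cj, ← hB, ← σ.B_cj, cj_eq_of_mem_normalizer hg]
  have hquad : ∀ g ∈ L2, ∀ u, σ.Quad B u → σ.Quad B (g * u * g⁻¹) := fun g hg u hu => by
    have h := σ.quad_cj (g := g) hu
    rwa [cj_eq_of_mem_normalizer (hBn hg)] at h
  have hTQ : σ.S ⊓ Subgroup.normalizer (Q : Set G) ≤ S2 := fun g hg => ⟨hg.1, by
    show g ∈ L2
    rw [mem_normalizer_iff_cj, ← σ.R1_cj, cj_eq_of_mem_normalizer hg.2]⟩
  have hQS : Q < σ.S := lt_of_le_of_ne hQ fun he => hng (by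
    subst he
    exact σ.good_of_mem (σ.mem_H_of_T (by rw [← σ.T_cj, cj_eq_of_mem_normalizer hn])) _)
  -- `R1` is extremal
  have hext1 : IsSylowIn p S2 L2 := by
    obtain ⟨a, ha1, ha2, ha3⟩ := exists_extremal_conj σ.sylow hR1S
    have hQlt : Q < σ.S ⊓ Subgroup.normalizer (Q : Set G) := lt_inf_normalizer σ.sylow.2.1 hQS
    have hk : σ.key U₀ < σ.key S2 := by
      rw [← hkey]; exact σ.key_lt_of_lt (hQlt.trans_le hTQ)
    obtain ⟨h, hh, hact⟩ := σ.good_of_key hmax (V := S2) (g := a) (hY1.trans hR1S2)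
      inf_le_left ha3 hk
    have hconj : ∀ U : Subgroup G, U ≤ S2 → h *• U = a *• U := fun U hU => by
      refine le_antisymm ?_ ?_ <;> rintro _ ⟨u, hu, rfl⟩
      · exact ⟨u, hu, (hact u (hU hu)).symm⟩
      · exact ⟨u, hu, hact u (hU hu)⟩
    have hQS2 : Q ≤ S2 := hQlt.le.trans hTQ
    have hcand : σ.Cand U₀ (h *• Q) (h * n * h⁻¹) := by
      refine ⟨fun y hy => mem_cj.mpr (hY (by simpa using σ.normal.conj_mem y hy h⁻¹)), ?_, ?_, ?_,
        ?_, by rw [σ.key_cj, hkey]⟩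
      · rw [hconj Q hQS2]; exact (cj_mono a hQS2).trans ha3
      · refine (extremal_iff σ.sylow.2.1).mpr ?_
        have hsy := ((extremal_iff σ.sylow.2.1).mp hext).cj h
        rw [← normalizer_cj] at hsy
        have hle : h *• (σ.S ⊓ Subgroup.normalizer (Q : Set G)) ≤
            σ.S ⊓ Subgroup.normalizer ((h *• Q : Subgroup G) : Set G) :=
          le_inf (by rw [hconj _ hTQ]; exact (cj_mono a hTQ).trans ha3) hsy.1
        rwa [hsy.eq_of_le hle inf_le_right σ.sylow.2.1.to_inf_left]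
      · rw [normalizer_cj]; exact conj_mem_cj h hn
      · intro hg
        apply hng
        have h1 := (σ.good_of_mem hh Q).mul σ hg
        rw [inv_mul_cancel_right] at h1
        have h2 := h1.mul σ (g' := h⁻¹) (σ.good_of_mem (inv_mem hh) _)
        rwa [inv_mul_cancel_left] at h2
    have hR1' : σ.R1 (h *• Q) = a *• R1 := by rw [σ.R1_cj, ← hR1, hconj R1 hR1S2]
    have hle : a *• S2 ≤ σ.S ⊓ Subgroup.normalizer ((a *• R1 : Subgroup G) : Set G) :=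
      le_inf ha3 (by rw [normalizer_cj]; exact cj_mono a inf_le_right)
    have hcard : Nat.card ↥(σ.S ⊓ Subgroup.normalizer ((a *• R1 : Subgroup G) : Set G)) ≤
        Nat.card ↥S2 := by
      by_contra hlt
      rw [not_le] at hlt
      have hb := hbest (show (h *• Q, h * n * h⁻¹) ∈ _ from hcand) (by
        simp only [hR1']; exact hlt.le)
      simp only [hR1'] at hb
      exact absurd hb (not_le.mpr hlt)
    have heq := eq_of_le_of_card_ge hle (by rw [card_cj]; exact hcard)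
    have hsy := (extremal_iff σ.sylow.2.1).mp ha2
    rw [← heq, normalizer_cj] at hsy
    have h3 := hsy.cj a⁻¹
    rwa [cj_inv_cj, cj_inv_cj] at h3
  -- the subgroup acting as `N(Z)` on `R1`
  let M2 : Subgroup G :=
    { carrier := {g | g ∈ L2 ∧ σ.Good R1 g}
      one_mem' := ⟨one_mem _, σ.good_of_mem (one_mem _) _⟩
      mul_mem' := fun {a b} ha hb => ⟨mul_mem ha.1 hb.1,
        hb.2.mul σ (by rw [cj_eq_of_mem_normalizer hb.1]; exact ha.2)⟩
      inv_mem' := fun {a} ha => ⟨inv_mem ha.1, by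
        have h := ha.2.inv σ
        rwa [cj_eq_of_mem_normalizer ha.1] at h⟩ }
  have hM2L : M2 ≤ L2 := fun g hg => hg.1
  have hS2M : S2 ≤ M2 := fun g hg => ⟨hg.2, σ.good_of_mem (σ.le_norm hg.1) _⟩
  have hsM : IsSylowIn p S2 M2 := hext1.of_le hS2M hM2L
  have hnL : n ∈ L2 := by rw [mem_normalizer_iff_cj, ← σ.R1_cj, cj_eq_of_mem_normalizer hn]
  have hzR1 : σ.z ∈ R1 := hBR1 hzB
  have hnM : n ∉ M2 := by
    rintro ⟨-, h, hh, hact⟩
    refine hng (σ.good_of_z hQ ?_ hh ?_)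
    · rw [cj_eq_of_mem_normalizer hn]; exact hQ
    · have e : h⁻¹ * n * σ.z * (h⁻¹ * n)⁻¹ = σ.z := by
        calc _ = h⁻¹ * (n * σ.z * n⁻¹) * h := by group
          _ = _ := by rw [← hact σ.z hzR1]; group
      rw [commutatorElement_def, e, mul_inv_cancel]
      exact one_mem _
  -- subgroups above `R1` with a quadratic element outside it
  have hbig : ∀ P : Subgroup G, P ≤ S2 → R1 ≤ P → ∀ u ∈ P, σ.Quad B u → u ∉ R1 →
      ∀ g : G, g *• P ≤ σ.S → σ.Good P g := fun P hP hRP u hu huq hun g hg =>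
    σ.good_of_key hmax (hY1.trans hRP) (hP.trans inf_le_left) hg
      (hkey ▸ σ.key_lt_of_quad hY hRP hu huq hun)
  have hnot : ∀ g ∈ L2, ∀ u, u ∉ R1 → g * u * g⁻¹ ∉ R1 := fun g hg u hu h =>
    hu ((mem_normalizer_iff.mp hg u).mpr h)
  have hxM : x ∈ M2 := hS2M hxS2
  -- conjugates of `x` in `M2`
  have hse1 : ∀ g ∈ L2, g * x * g⁻¹ ∈ M2 → g ∈ M2 := by
    intro g hg hgx
    set U := R1 ⊔ Subgroup.zpowers x with hU
    have hUS : U ≤ S2 := sup_le hR1S2 (zpowers_le.mpr hxS2)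
    have hUg : g *• U ≤ M2 := by
      rw [hU, Subgroup.map_sup, cj_eq_of_mem_normalizer hg, MonoidHom.map_zpowers]
      exact sup_le (hR1S2.trans hS2M) (zpowers_le.mpr hgx)
    obtain ⟨m, hm, hm'⟩ := hsM.exists_cj_le hUg (isPGroup_cj g (σ.sylow.2.1.to_le
      (hUS.trans inf_le_left)))
    have h1 : σ.Good U (m * g) := hbig U hUS le_sup_left x (mem_sup_right (mem_zpowers x)) hxq hxR
      (m * g) (by rw [← cj_cj]; exact hm'.trans inf_le_left)
    have h2 : m * g ∈ M2 := ⟨mul_mem hm.1 hg, h1.mono σ le_sup_left⟩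
    simpa using mul_mem (inv_mem hm) h2
  have hse : ∀ P : Subgroup G, IsPGroup p P → P ≤ L2 → x ∈ P → P ≤ M2 := by
    intro P hP hPL hxP
    obtain ⟨a, haL, ha⟩ := hext1.exists_cj_le hPL hP
    have haM : a ∈ M2 := hse1 a haL (hS2M (ha (conj_mem_cj a hxP)))
    intro y hy
    have h := mul_mem (mul_mem (inv_mem haM) (hS2M (ha (conj_mem_cj a hy)))) haM
    simpa [mul_assoc] using h
  refine ⟨{
    R := R1, B := B, x := x, n := n
    R_p := σ.sylow.2.1.to_le hR1S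
    B_le := hBR1
    Y_le := fun y hy => ⟨σ.Y_le_R hY hy, by rw [σ.q_eq_one.mpr hy]; exact one_mem _,
      by rw [σ.q_eq_one.mpr hy, one_pow], mem_centralizer_iff.mpr fun t ht =>
        (mem_centralizer_iff.mp (σ.T_le Q ht).2 y hy).symm⟩
    z_mem := hzB
    B_pow := fun b hb => hb.2.2.1
    B_comm := fun b hb b' hb' => σ.comm_mem_Y_iff.mp (σ.R_comm_B hb (σ.B_le Q hb'))
    B_norm := hBn
    x_mem := hxS2.1
    x_norm := hxS2.2
    x_quad := hxq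
    n_norm := hnL
    n_bad := fun h => hnM (hse1 n hnL ⟨mul_mem (mul_mem hnL hxS2.2) (inv_mem hnL), h⟩)
    stab := fun g hg hgz => σ.good_of_z hR1S (by rw [cj_eq_of_mem_normalizer hg]; exact hR1S)
      (one_mem _) (by rwa [inv_one, one_mul])
    se := fun P hP hPL hxP g hg => (hse P hP hPL hxP hg).2
    act := ?_ }⟩
  intro P hP hPL hxP hRP g hg hgP
  have hgM : g ∈ M2 := hse1 g hg (hse P hP hPL hxP (hgP ▸ conj_mem_cj g hxP))
  refine ⟨hgM.2, ?_⟩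
  obtain ⟨m, hm, hm'⟩ := hsM.exists_cj_le (hse P hP hPL hxP) hP
  refine ⟨m, hm'.trans inf_le_left, hbig (m *• P) hm' ?_ (m * x * m⁻¹) (conj_mem_cj m hxP)
    (hquad m hm.1 x hxq) (hnot m hm.1 x hxR) _ ?_⟩
  · rw [← cj_eq_of_mem_normalizer hm.1]; exact cj_mono m hRP
  · rw [cj_cj, inv_mul_cancel_right, ← cj_cj, hgP]; exact hm'.trans inf_le_left

end Setting

end CfsgLib.LocalEven.ZJFailure
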