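import Cfsg.Agent.LocalEven.QdOver
import Cfsg.Agent.LocalEven.Involves
import Cfsg.Agent.Linear.SylowChar
import Mathlib.GroupTheory.PGroup
import Mathlib.FieldTheory.Finite.Basic

/-!
# A section isomorphic to `F(p)`

A `p`-element and an element normalising a `p`-subgroup which act on a quotient plane of a subgroup
as a transvection and as a generating torus element give a section `F(p)`.
-/

set_option autoImplicit false
set_option maxHeartbeats 800000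

namespace CfsgLib.LocalEven.ZJFailure

open Subgroup Matrix CfsgLib.Linear
open scoped MatrixGroups

variable {G : Type*} [Group G] [Finite G] {p : ℕ} [Fact p.Prime]

/-- Criterion for a section `F(p)`. -/
theorem involves_fOver (hp : p ≠ 2) {V B2 : Subgroup G} (hV : IsPGroup p V) (hB : B2 ≤ V) {u h : G}
    (hu : u ∈ V) (hh : h ∈ Subgroup.normalizer (V : Set G))
    (huB : u ∈ Subgroup.normalizer (B2 : Set G)) (hhB : h ∈ Subgroup.normalizer (B2 : Set G))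
    (f : G → (Fin 2 → ZMod p)) (hadd : ∀ a ∈ B2, ∀ b ∈ B2, f (a * b) = f a + f b)
    (hsurj : ∀ v, ∃ b ∈ B2, f b = v) (ζ : (ZMod p)ˣ) (hζ : orderOf ζ = p - 1)
    (hfu : ∀ b ∈ B2, f (u * b * u⁻¹) = (upperUni (1 : ZMod p)).1 *ᵥ f b)
    (hfh : ∀ b ∈ B2, f (h * b * h⁻¹) =
      !![(ζ : ZMod p), 0; 0, ((ζ⁻¹ : (ZMod p)ˣ) : ZMod p)] *ᵥ f b) :
    Cfsg.Involves ↥(Cfsg.fOver (ZMod p)) G := by
  classical
  have hf1 : f 1 = 0 := by
    have h := hadd 1 (one_mem _) 1 (one_mem _)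
    rwa [mul_one, left_eq_add] at h
  have hfinv : ∀ b ∈ B2, f b⁻¹ = -f b := fun b hb => by
    have h := hadd b⁻¹ (inv_mem hb) b hb
    rw [inv_mul_cancel, hf1] at h
    exact eq_neg_of_add_eq_zero_left h.symm
  let Acts : G → SL(2, ZMod p) → Prop := fun g M => g ∈ Subgroup.normalizer (B2 : Set G) ∧
    ∀ b ∈ B2, f (g * b * g⁻¹) = M.1 *ᵥ f b
  have huniq : ∀ g M N, Acts g M → Acts g N → M = N := fun g M N hM hN =>
    Subtype.ext (Matrix.toLin'.injective (LinearMap.ext fun v => by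
      obtain ⟨b, hb, rfl⟩ := hsurj v
      rw [Matrix.toLin'_apply, Matrix.toLin'_apply, ← hM.2 b hb, ← hN.2 b hb]))
  have hmul : ∀ g g' M N, Acts g M → Acts g' N → Acts (g * g') (M * N) := fun g g' M N hM hN => by
    refine ⟨mul_mem hM.1 hN.1, fun b hb => ?_⟩
    have hb' : g' * b * g'⁻¹ ∈ B2 := (mem_normalizer_iff.mp hN.1 b).mp hb
    rw [show g * g' * b * (g * g')⁻¹ = g * (g' * b * g'⁻¹) * g⁻¹ by group, hM.2 _ hb', hN.2 b hb,
      Matrix.SpecialLinearGroup.coe_mul, Matrix.mulVec_mulVec]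
  let Stab : Subgroup G :=
    { carrier := {g | ∃ M, Acts g M}
      one_mem' := ⟨1, one_mem _, fun b _ => by simp⟩
      mul_mem' := fun ⟨M, hM⟩ ⟨N, hN⟩ => ⟨M * N, hmul _ _ M N hM hN⟩
      inv_mem' := fun {g} ⟨M, hM⟩ => ⟨M⁻¹, inv_mem hM.1, fun b hb => by
        have hb' : g⁻¹ * b * g⁻¹⁻¹ ∈ B2 := (mem_normalizer_iff.mp (inv_mem hM.1) b).mp hb
        have h := hM.2 _ hb'
        rw [show g * (g⁻¹ * b * g⁻¹⁻¹) * g⁻¹ = b by group] at h
        rw [h, Matrix.mulVec_mulVec, ← Matrix.SpecialLinearGroup.coe_mul, inv_mul_cancel,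
          Matrix.SpecialLinearGroup.coe_one, Matrix.one_mulVec]⟩ }
  choose F hF using fun g : Stab => g.2
  let ρ : Stab →* SL(2, ZMod p) :=
    MonoidHom.mk' F fun g g' => huniq _ _ _ (hF _) (hmul _ _ _ _ (hF g) (hF g'))
  have hρ : ∀ (g : Stab) b, b ∈ B2 → f ((g : G) * b * (g : G)⁻¹) = (ρ g).1 *ᵥ f b :=
    fun g => (hF g).2
  have hρeq : ∀ (g : Stab) M, Acts g M → ρ g = M := fun g M hM => huniq _ _ _ (hF g) hM
  have hActsB : ∀ b ∈ B2, Acts b 1 := fun b hb => ⟨le_normalizer hb, fun b' hb' => by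
    rw [hadd _ (mul_mem hb hb') _ (inv_mem hb), hadd b hb b' hb', hfinv b hb,
      Matrix.SpecialLinearGroup.coe_one, Matrix.one_mulVec]
    abel⟩
  have hBS : ∀ b ∈ B2, b ∈ Stab := fun b hb => ⟨1, hActsB b hb⟩
  let D : SL(2, ZMod p) := ⟨!![(ζ : ZMod p), 0; 0, ((ζ⁻¹ : (ZMod p)ˣ) : ZMod p)], by
    rw [Matrix.det_fin_two_of, mul_zero, sub_zero, ← Units.val_mul, mul_inv_cancel, Units.val_one]⟩
  have hActu : Acts u (upperUni 1) := ⟨huB, hfu⟩
  have hActh : Acts h D := ⟨hhB, hfh⟩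
  let u₁ : Stab := ⟨u, _, hActu⟩
  let h₁ : Stab := ⟨h, _, hActh⟩
  have hDpow : ∀ i : ℕ, (D ^ i).1 =
      !![((ζ ^ i : (ZMod p)ˣ) : ZMod p), 0; 0, (((ζ ^ i)⁻¹ : (ZMod p)ˣ) : ZMod p)] := by
    intro i
    induction i with
    | zero =>
      ext a b
      fin_cases a <;> fin_cases b <;> simp
    | succ i ih =>
      rw [pow_succ, Matrix.SpecialLinearGroup.coe_mul, ih]
      show _ * !![(ζ : ZMod p), 0; 0, ((ζ⁻¹ : (ZMod p)ˣ) : ZMod p)] = _
      rw [Matrix.mul_fin_two]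
      simp only [mul_zero, zero_mul, add_zero, zero_add, ← Units.val_mul, ← _root_.mul_inv,
        ← pow_succ]
  -- an element acting as `-1` of `2`-power order
  have hp2 : 2 ≤ p := (Fact.out : p.Prime).two_le
  obtain ⟨half, hhalf⟩ : ∃ k, p - 1 = 2 * k := by
    obtain ⟨k, hk⟩ := (Fact.out : p.Prime).odd_of_ne_two hp
    exact ⟨k, by omega⟩
  have hneg : D ^ half = -1 := by
    have h1 : (ζ ^ half : (ZMod p)ˣ) = -1 := by
      have hsq : ((ζ ^ half : (ZMod p)ˣ) : ZMod p) ^ 2 = 1 := by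
        rw [← Units.val_pow_eq_pow_val, ← pow_mul, mul_comm, ← hhalf, ← hζ, pow_orderOf_eq_one,
          Units.val_one]
      rcases sq_eq_one_iff.mp hsq with h | h
      · exfalso
        have h' := orderOf_dvd_of_pow_eq_one (show ζ ^ half = 1 from Units.ext h)
        rw [hζ, hhalf] at h'
        have := Nat.le_of_dvd (by omega) h'
        omega
      · exact Units.ext (by rw [h, Units.val_neg, Units.val_one])
    apply Subtype.ext
    rw [hDpow, h1, inv_neg, inv_one]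
    ext a b
    fin_cases a <;> fin_cases b <;> simp
  obtain ⟨s, o, ho, hso⟩ :=
    Nat.exists_eq_pow_mul_and_not_dvd (orderOf_pos (h₁ ^ half)).ne' 2 (by norm_num)
  set j := (h₁ ^ half) ^ o with hjd
  have hj2 : j ^ 2 ^ s = 1 := by
    rw [hjd, ← pow_mul, mul_comm o, ← hso, pow_orderOf_eq_one]
  have hρh : ρ h₁ = D := hρeq _ _ hActh
  have hρj : ρ j = -1 := by
    rw [hjd, map_pow, map_pow, hρh, hneg]
    exact (Nat.not_even_iff_odd.mp fun h => ho (even_iff_two_dvd.mp h)).neg_one_pow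
  have hjh : j * h₁ = h₁ * j := ((Commute.refl h₁).pow_left half).pow_left o
  have hjV : (j : G) ∈ Subgroup.normalizer (V : Set G) := by
    rw [hjd, SubgroupClass.coe_pow, SubgroupClass.coe_pow]
    exact pow_mem (pow_mem hh _) _
  have hjneg : ∀ b ∈ B2, f ((j : G) * b * (j : G)⁻¹) = -f b := fun b hb => by
    rw [hρ j b hb, hρj]
    simp [Matrix.neg_mulVec]
  -- a conjugate of `u` commuting with `j`
  obtain ⟨u', hu'⟩ : ∃ u' : Stab, (u' : G) ∈ V ∧ ρ u' = upperUni 1 ∧ j * u' = u' * j := by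
    let Xs := {v : Stab // (v : G) ∈ V ∧ ρ v = upperUni 1}
    have hρu : ρ u₁ = upperUni 1 := hρeq _ _ hActu
    let N0 : Subgroup Stab := V.subgroupOf Stab ⊓ ρ.ker
    have hN0 : IsPGroup p N0 := (hV.comap_subtype (K := Stab)).to_inf_left
    have hcard : Nat.card Xs = Nat.card N0 := Nat.card_congr
      { toFun := fun v => ⟨u₁⁻¹ * v.1, Subgroup.mem_inf.mpr
          ⟨mem_subgroupOf.mpr (mul_mem (inv_mem (show (u₁ : G) ∈ V from hu)) v.2.1),
            MonoidHom.mem_ker.mpr (by rw [map_mul, map_inv, hρu, v.2.2, inv_mul_cancel])⟩⟩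
        invFun := fun m => ⟨u₁ * m.1, mul_mem hu (Subgroup.mem_inf.mp m.2).1, by
          rw [map_mul, hρu, MonoidHom.mem_ker.mp m.2.2, mul_one]⟩
        left_inv := fun v => Subtype.ext (mul_inv_cancel_left _ _)
        right_inv := fun m => Subtype.ext (inv_mul_cancel_left _ _) }
    have hmem : ∀ g ∈ Subgroup.zpowers j, ∀ v : Xs,
        ((g * v.1 * g⁻¹ : Stab) : G) ∈ V ∧ ρ (g * v.1 * g⁻¹) = upperUni 1 := by
      intro g hg v
      obtain ⟨i, rfl⟩ := mem_zpowers_iff.mp hg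
      refine ⟨?_, ?_⟩
      · rw [Subgroup.coe_mul, Subgroup.coe_mul, Subgroup.coe_inv, SubgroupClass.coe_zpow]
        exact (mem_normalizer_iff.mp (zpow_mem hjV i) _).mp v.2.1
      · rw [map_mul, map_mul, map_inv, map_zpow, hρj, v.2.2]
        have hc : Commute (-1 : SL(2, ZMod p)) (upperUni 1) := Commute.neg_one_left _
        rw [(hc.zpow_left i).eq, mul_inv_cancel_right]
    letI : MulAction ↥(Subgroup.zpowers j) Xs :=
      { smul := fun g v => ⟨g.1 * v.1 * g.1⁻¹, hmem g.1 g.2 v⟩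
        one_smul := fun v => Subtype.ext (show (1 : Stab) * v.1 * (1 : Stab)⁻¹ = v.1 by simp)
        mul_smul := fun g g' v => Subtype.ext (by
          show (g.1 * g'.1) * v.1 * (g.1 * g'.1)⁻¹ = g.1 * (g'.1 * v.1 * g'.1⁻¹) * g.1⁻¹
          group) }
    haveI : Fact (Nat.Prime 2) := ⟨Nat.prime_two⟩
    have h2 : IsPGroup 2 ↥(Subgroup.zpowers j) := fun g => ⟨s, Subtype.ext (by
      obtain ⟨i, hi⟩ := mem_zpowers_iff.mp g.2
      rw [SubgroupClass.coe_pow, OneMemClass.coe_one, ← hi, ← zpow_natCast, ← _root_.zpow_mul, mul_comm,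
        _root_.zpow_mul, zpow_natCast, hj2, _root_.one_zpow])⟩
    have hodd : ¬ 2 ∣ Nat.card Xs := by
      obtain ⟨k, hk⟩ := IsPGroup.iff_card.mp hN0
      rw [hcard, hk]
      intro h
      exact hp ((Nat.prime_dvd_prime_iff_eq Nat.prime_two Fact.out).mp
        (Nat.prime_two.dvd_of_dvd_pow h)).symm
    obtain ⟨v, hv⟩ := h2.nonempty_fixed_point_of_prime_not_dvd_card Xs hodd
    refine ⟨v.1, v.2.1, v.2.2, ?_⟩
    have h := congrArg Subtype.val (hv ⟨j, mem_zpowers j⟩)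
    exact mul_inv_eq_iff_eq_mul.mp h
  obtain ⟨hu'V, hρu', hju'⟩ := hu'
  set C : Subgroup Stab := Subgroup.centralizer ({j} : Set Stab) with hC
  have hu'C : u' ∈ C := mem_centralizer_singleton_iff.mpr hju'.symm
  have hhC : h₁ ∈ C := mem_centralizer_singleton_iff.mpr hjh.symm
  have hCB : ∀ b : Stab, (b : G) ∈ B2 → b ∈ C → f b = 0 := by
    intro b hb hbC
    have h := congrArg Subtype.val (mem_centralizer_singleton_iff.mp hbC)
    have h1 := hjneg _ hb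
    rw [show (j : G) * (b : G) * (j : G)⁻¹ = b by
      rw [show (j : G) * (b : G) = (b : G) * (j : G) from h.symm, mul_inv_cancel_right]] at h1
    haveI : Fact (2 < p) := ⟨lt_of_le_of_ne hp2 (Ne.symm hp)⟩
    funext i
    have h2 := congrFun h1 i
    have h3 : (2 : ZMod p) * f b i = 0 := by rw [two_mul]; exact eq_neg_iff_add_eq_zero.mp h2
    refine (mul_eq_zero.mp h3).resolve_left fun h => ?_
    have h' : ((2 : ℕ) : ZMod p) = 0 := by exact_mod_cast h
    rw [ZMod.natCast_eq_zero_iff] at h'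
    exact hp ((Nat.prime_dvd_prime_iff_eq Fact.out Nat.prime_two).mp h')
  -- the subgroup mapping onto `F(p)`
  let K : Subgroup Stab :=
    { carrier := {g | (ρ g).1 1 0 = 0 ∧ ∃ b : Stab, (b : G) ∈ B2 ∧ b⁻¹ * g ∈ C}
      one_mem' := ⟨by simp, 1, one_mem B2, by simp⟩
      mul_mem' := by
        rintro g g' ⟨h1, b, hb, hbg⟩ ⟨h1', b', hb', hbg'⟩
        refine ⟨by simp [Matrix.mul_apply, Fin.sum_univ_two, h1, h1'],
          b * ((b⁻¹ * g) * b' * (b⁻¹ * g)⁻¹), ?_, ?_⟩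
        · have hn : ((b⁻¹ * g : Stab) : G) ∈ Subgroup.normalizer (B2 : Set G) :=
            (hF (b⁻¹ * g)).1
          exact mul_mem hb ((mem_normalizer_iff.mp hn _).mp hb')
        · rw [show (b * ((b⁻¹ * g) * b' * (b⁻¹ * g)⁻¹))⁻¹ * (g * g') =
              (b⁻¹ * g) * (b'⁻¹ * g') by group]
          exact mul_mem hbg hbg'
      inv_mem' := by
        rintro g ⟨h1, b, hb, hbg⟩
        refine ⟨by simp [Matrix.adjugate_fin_two, h1], g⁻¹ * b⁻¹ * g, ?_, ?_⟩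
        · simpa using (mem_normalizer_iff.mp (inv_mem (hF g).1) _).mp (inv_mem hb)
        · rw [show (g⁻¹ * b⁻¹ * g)⁻¹ * g⁻¹ = (b⁻¹ * g)⁻¹ * 1 by group, mul_one]
          exact inv_mem hbg }
  choose bb hbb hbbC using fun g : K => g.2.2
  have hval : ∀ (g : K) (b : Stab), (b : G) ∈ B2 → b⁻¹ * g.1 ∈ C → f (bb g) = f b := by
    intro g b hb hbC
    have hm := mul_mem hbC (inv_mem (hbbC g))
    rw [show b⁻¹ * g.1 * ((bb g)⁻¹ * g.1)⁻¹ = b⁻¹ * bb g by group] at hm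
    have h0 := hCB _ (show ((b⁻¹ * bb g : Stab) : G) ∈ B2 from mul_mem (inv_mem hb) (hbb g)) hm
    rw [Subgroup.coe_mul, Subgroup.coe_inv, hadd _ (inv_mem hb) _ (hbb g), hfinv _ hb] at h0
    exact eq_of_neg_add_eq_zero h0 |>.symm
  have hvk : ∀ g g' : K, f (bb (g * g')) = f (bb g) + (ρ g.1).1 *ᵥ f (bb g') := by
    intro g g'
    have hc1 : ((bb g : Stab) : G)⁻¹ * ((g.1 : Stab) : G) ∈ Subgroup.normalizer (B2 : Set G) :=
      (hF ((bb g)⁻¹ * g.1)).1
    rw [hval (g * g') (bb g * (((bb g)⁻¹ * g.1) * bb g' * ((bb g)⁻¹ * g.1)⁻¹))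
      (mul_mem (hbb g) ((mem_normalizer_iff.mp hc1 _).mp (hbb g'))) (by
        rw [Subgroup.coe_mul, show (bb g * (((bb g)⁻¹ * g.1) * bb g' * ((bb g)⁻¹ * g.1)⁻¹))⁻¹ *
          (g.1 * g'.1) = ((bb g)⁻¹ * g.1) * ((bb g')⁻¹ * g'.1) by group]
        exact mul_mem (hbbC g) (hbbC g'))]
    rw [Subgroup.coe_mul, hadd _ (hbb g) _
      (show ((((bb g)⁻¹ * g.1) * bb g' * ((bb g)⁻¹ * g.1)⁻¹ : Stab) : G) ∈ B2 from
        (mem_normalizer_iff.mp hc1 _).mp (hbb g'))]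
    congr 1
    rw [show ((((bb g)⁻¹ * g.1) * bb g' * ((bb g)⁻¹ * g.1)⁻¹ : Stab) : G) =
      (((bb g)⁻¹ * g.1 : Stab) : G) * (bb g' : G) * (((bb g)⁻¹ * g.1 : Stab) : G)⁻¹ from rfl,
      hρ _ _ (hbb g'), map_mul, map_inv, hρeq (bb g) 1 (hActsB _ (hbb g)), inv_one, one_mul]
  let φ : K →* ↥(Cfsg.fOver (ZMod p)) := MonoidHom.mk' (fun g =>
    ⟨(QdOver.mk ((ρ g.1).1 0 0) ((ρ g.1).1 0 1) ((ρ g.1).1 1 0) ((ρ g.1).1 1 1)
        (f (bb g) 0) (f (bb g) 1) (QdOver.sl2_eta (ρ g.1))).1,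
      Subgroup.subset_closure ⟨by rw [QdOver.val_mk]; simp [g.2.1], by rw [QdOver.val_mk]; simp,
        by rw [QdOver.val_mk]; simp, by rw [QdOver.val_mk]; simp⟩⟩) fun g g' => by
    apply Subtype.ext
    show _ = _ * _
    rw [← Subgroup.coe_mul (Cfsg.qdOver (ZMod p)), QdOver.mk_mul]
    refine congrArg Subtype.val (QdOver.mk_congr (h := QdOver.sl2_eta _) ?_ ?_ ?_ ?_ ?_ ?_)
    all_goals simp only [hvk, Subgroup.coe_mul, map_mul, Matrix.SpecialLinearGroup.coe_mul,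
      Matrix.mul_apply, Pi.add_apply, Matrix.mulVec, dotProduct, Fin.sum_univ_two]
    all_goals ring
  refine involves_of_hom Stab (MonoidHom.id Stab) Function.surjective_id
    (involves_of_surjective K φ fun M => ?_)
  suffices hM : M.1 ∈ φ.range.map (Cfsg.fOver (ZMod p)).subtype by
    obtain ⟨_, ⟨g, rfl⟩, hg⟩ := hM
    exact ⟨g, Subtype.ext hg⟩
  refine (Subgroup.closure_le _).mpr ?_ M.2
  rintro N ⟨n10, n20, n21, n22⟩
  have hdet : N.1 0 0 * N.1 1 1 = 1 := by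
    have hd : N.1.det = 1 := N.2
    rw [det_fin_three, n10, n20, n21, n22] at hd
    linear_combination hd
  have ha : N.1 0 0 ≠ 0 := fun h => by rw [h, zero_mul] at hdet; exact zero_ne_one hdet
  obtain ⟨i, hi⟩ : ∃ i : ℕ, ((ζ ^ i : (ZMod p)ˣ) : ZMod p) = N.1 0 0 := by
    have hgen : Subgroup.zpowers ζ = ⊤ := Subgroup.eq_top_of_card_eq _ (by
      rw [Nat.card_zpowers, hζ, Nat.card_eq_fintype_card, ZMod.card_units])
    have hm : Units.mk0 _ ha ∈ Subgroup.zpowers ζ := hgen ▸ mem_top _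
    rw [← mem_powers_iff_mem_zpowers] at hm
    obtain ⟨i, hi⟩ := hm
    exact ⟨i, congrArg Units.val hi⟩
  set k := (N.1 0 1 * N.1 1 1).val with hk
  set c₀ : Stab := h₁ ^ i * u' ^ k with hc₀
  obtain ⟨b, hb, hbf⟩ := hsurj ![N.1 0 2, N.1 1 2]
  have hρc : (ρ c₀).1 = !![N.1 0 0, N.1 0 1; 0, N.1 1 1] := by
    have hUk : ∀ k : ℕ, upperUni (1 : ZMod p) ^ k = upperUni (k : ZMod p) := by
      intro k
      induction k with
      | zero =>
        apply Subtype.ext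
        rw [pow_zero, upperUni_val]
        ext a b; fin_cases a <;> fin_cases b <;> simp
      | succ k ih =>
        apply Subtype.ext
        rw [pow_succ, ih, Matrix.SpecialLinearGroup.coe_mul, upperUni_val, upperUni_val, upperUni_val]
        ext a b; fin_cases a <;> fin_cases b <;> simp [Matrix.mul_apply, Fin.sum_univ_two, add_comm]
    have h11 : (((ζ ^ i)⁻¹ : (ZMod p)ˣ) : ZMod p) = N.1 1 1 := by
      rw [Units.val_inv_eq_inv_val, hi]
      exact inv_eq_of_mul_eq_one_right hdet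
    rw [hc₀, map_mul, map_pow, map_pow, hρh, hρu', hUk, Matrix.SpecialLinearGroup.coe_mul, hDpow,
      upperUni_val, hi, h11, hk, ZMod.natCast_val, ZMod.cast_id]
    ext a b
    fin_cases a <;> fin_cases b <;> simp [Matrix.mul_apply, Fin.sum_univ_two]
    linear_combination N.1 0 1 * hdet
  have hρk : ρ (⟨b, hBS b hb⟩ * c₀) = ρ c₀ := by
    rw [map_mul, hρeq ⟨b, hBS b hb⟩ 1 (hActsB b hb), one_mul]
  have hc₀C : (⟨b, hBS b hb⟩ : Stab)⁻¹ * (⟨b, hBS b hb⟩ * c₀) ∈ C := by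
    rw [inv_mul_cancel_left]
    exact mul_mem (pow_mem hhC _) (pow_mem hu'C _)
  let g₀ : K := ⟨⟨b, hBS b hb⟩ * c₀, by rw [hρk, hρc]; simp, ⟨b, hBS b hb⟩, hb, hc₀C⟩
  refine ⟨φ g₀, ⟨g₀, rfl⟩, ?_⟩
  have hfb := hval g₀ ⟨b, hBS b hb⟩ hb hc₀C
  apply Subtype.ext
  show (((φ g₀ : ↥(Cfsg.fOver (ZMod p))) : SL(3, ZMod p))).1 = N.1
  simp only [φ, MonoidHom.mk'_apply]
  rw [QdOver.val_mk]
  simp only [g₀] at hfb ⊢
  rw [hfb, hρk, hρc, hbf]
  ext a b
  fin_cases a <;> fin_cases b <;> simp [n10, n20, n21, n22]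

end CfsgLib.LocalEven.ZJFailure
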