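import Cfsg.Agent.LocalEven.ZJFailure.Module
import Cfsg.Agent.LocalEven.ZJFailure.Split

/-!
# Failure of fusion control by `Z(J(S))`: the structure of `N(Z(J(S)))`

In a setting, `N(Z)` has a section `F(p)` and `Z` has a subgroup of order `p` on which `N(Z)` induces
all automorphisms.
-/

set_option autoImplicit false

namespace CfsgLib.LocalEven.ZJFailure

open Subgroup Matrix CfsgLib.ConjFunctor CfsgLib.LocalEvenBasic CfsgLib.Linear
open scoped commutatorElement MatrixGroups IsMulCommutative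

variable {p : ℕ} [Fact p.Prime] {G : Type*} [Group G] [Finite G]

/-- An element raising a generator of order `p` to a primitive power. -/
theorem relIndex_of_primitive {H : Subgroup G} {c h : G} {ζ : (ZMod p)ˣ} (hζ : orderOf ζ = p - 1)
    (hc : orderOf c = p) (hh : h ∈ H) (hhc : h * c * h⁻¹ = c ^ (ζ : ZMod p).val) :
    (H ⊓ Subgroup.centralizer (Subgroup.zpowers c : Set G)).relIndex
      (H ⊓ Subgroup.normalizer (Subgroup.zpowers c : Set G)) = p - 1 := by
  set C := Subgroup.zpowers c with hC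
  set N := H ⊓ Subgroup.normalizer (C : Set G) with hN
  have hcard : Nat.card C = p := by rw [hC, Nat.card_zpowers, hc]
  let χ : N →* MulAut C := C.normalizerMonoidHom.comp (inclusion inf_le_right)
  have hker : χ.ker = (H ⊓ Subgroup.centralizer (C : Set G)).subgroupOf N := by
    ext g
    have h := SetLike.ext_iff.mp (C.normalizerMonoidHom_ker) (inclusion inf_le_right g)
    rw [MonoidHom.mem_ker, mem_subgroupOf] at h
    rw [MonoidHom.mem_ker, mem_subgroupOf]
    exact h.trans ⟨fun h' => ⟨g.2.1, h'⟩, fun h' => h'.2⟩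
  rw [Subgroup.relIndex, ← hker, Subgroup.index_ker]
  have hcyc : IsCyclic C := Subgroup.isCyclic_zpowers c
  have hM : Nat.card (MulAut C) = p - 1 := by
    rw [hcyc.card_mulAut, hcard, Nat.totient_prime Fact.out]
  refine le_antisymm (hM ▸ Subgroup.card_le_card_group χ.range) ?_
  have hhN : h ∈ N := ⟨hh, mem_normalizer_of_cj_le (by
    rw [hC, MonoidHom.map_zpowers, zpowers_le]
    show h * c * h⁻¹ ∈ _
    rw [hhc]
    exact pow_mem (mem_zpowers c) _)⟩
  have hpow : ∀ i : ℕ, h ^ i * c * (h ^ i)⁻¹ = c ^ (ζ : ZMod p).val ^ i := by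
    intro i
    induction i with
    | zero => simp
    | succ i ih =>
      rw [pow_succ', show h * h ^ i * c * (h * h ^ i)⁻¹ = h * (h ^ i * c * (h ^ i)⁻¹) * h⁻¹ by group,
        ih, ← conj_pow, hhc, ← pow_mul, ← pow_succ']
  have hord : p - 1 ∣ orderOf (χ ⟨h, hhN⟩) := by
    rw [← hζ]
    refine orderOf_dvd_of_pow_eq_one (Units.ext ?_)
    have h1 : (χ ⟨h, hhN⟩ ^ orderOf (χ ⟨h, hhN⟩)) ⟨c, mem_zpowers c⟩ = ⟨c, mem_zpowers c⟩ := by
      rw [pow_orderOf_eq_one]; rfl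
    rw [← map_pow] at h1
    have h2 : c ^ (ζ : ZMod p).val ^ orderOf (χ ⟨h, hhN⟩) = c := by
      rw [← hpow]
      exact congrArg Subtype.val h1
    have h3 := pow_inj_mod.mp (h2.trans (pow_one c).symm)
    rw [hc, ← ZMod.natCast_eq_natCast_iff'] at h3
    rw [Units.val_pow_eq_pow_val, Units.val_one]
    simpa using h3
  calc p - 1 ≤ orderOf (χ ⟨h, hhN⟩) := Nat.le_of_dvd (orderOf_pos _) hord
    _ = Nat.card (Subgroup.zpowers (χ ⟨h, hhN⟩)) := (Nat.card_zpowers _).symm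
    _ ≤ Nat.card χ.range := Nat.card_mono (Set.toFinite _) (zpowers_le.mpr ⟨_, rfl⟩)

namespace Setting

variable (σ : Setting p G)

/-- The normaliser of `Z` induces all automorphisms on a subgroup of order `p` of `Z`. -/
theorem exists_full_cyclic (τ : σ.Torus) : ∃ C : Subgroup G, C ≤ σ.Z ∧ Nat.card C = p ∧
    (σ.H ⊓ Subgroup.centralizer (C : Set G)).relIndex
      (σ.H ⊓ Subgroup.normalizer (C : Set G)) = p - 1 := by
  classical
  obtain ⟨h, hh, hact⟩ := τ.good_t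
  set M : Subgroup G := τ.B ⊓ σ.Z with hM
  have hcomm : IsMulCommutative M := ⟨⟨fun a b => Subtype.ext
    (commute_of_mem_isMulCommutative σ.comm a.2.2 b.2.2)⟩⟩
  have hhM : ∀ b ∈ M, h * b * h⁻¹ ∈ M := fun b hb => ⟨by
    rw [hact b (τ.B_le hb.1)]; exact (τ.f_t b hb.1).1, (mem_normalizer_iff.mp hh b).mp hb.2⟩
  set k := (τ.ζ : ZMod p).val with hk
  let ψ : M →* M :=
    { toFun := fun b => ⟨h * b * h⁻¹, hhM b b.2⟩ * (b ^ k)⁻¹
      map_one' := by simp
      map_mul' := fun a b => by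
        rw [mul_pow, _root_.mul_inv, mul_mul_mul_comm]
        congr 1
        exact Subtype.ext (conj_mul).symm }
  have hf1 : τ.f 1 = 0 := by
    have h := τ.f_add 1 (one_mem _) 1 (one_mem _)
    rwa [mul_one, left_eq_add] at h
  have hfpow : ∀ b ∈ τ.B, ∀ i : ℕ, τ.f (b ^ i) = i • τ.f b := fun b hb i => by
    induction i with
    | zero => rw [pow_zero, hf1, zero_smul]
    | succ i ih => rw [pow_succ, τ.f_add _ (pow_mem hb i) _ hb, ih, succ_nsmul]
  have hz : (⟨σ.z, τ.z_mem, σ.z_mem⟩ : M) ∉ ψ.range := by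
    rintro ⟨b, hb⟩
    have hb' : h * (b : G) * h⁻¹ = σ.z * (b : G) ^ k := by
      have h' := congrArg Subtype.val hb
      exact mul_inv_eq_iff_eq_mul.mp h'
    have h1 := congrArg τ.f hb'
    rw [hact _ (τ.B_le b.2.1), (τ.f_t _ b.2.1).2, τ.f_add _ τ.z_mem _ (pow_mem b.2.1 _),
      hfpow _ b.2.1, τ.f_z] at h1
    have h2 := congrFun h1 0
    simp only [torusMat, Matrix.mulVec, dotProduct, Fin.sum_univ_two, Pi.add_apply, Pi.smul_apply,
      Pi.single_eq_same, nsmul_eq_mul, Pi.mul_apply, Pi.natCast_apply, of_apply, cons_val_zero, cons_val_one, cons_val',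
      cons_val_fin_one, empty_val', zero_mul, add_zero] at h2
    rw [hk, ZMod.natCast_zmod_val] at h2
    exact one_ne_zero (by linear_combination -h2 : (1 : ZMod p) = 0)
  obtain ⟨b, hb1, hb0⟩ : ∃ b : M, ψ b = 1 ∧ b ≠ 1 := by
    by_contra hcon
    push Not at hcon
    exact hz (MonoidHom.range_eq_top.mpr (Finite.injective_iff_surjective.mp
      ((injective_iff_map_eq_one ψ).mpr hcon)) ▸ mem_top _)
  have hMp : IsPGroup p M := σ.sylow.2.1.to_le (inf_le_right.trans σ.Z_le)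
  haveI : Nontrivial ψ.ker := ⟨⟨⟨b, hb1⟩, 1, fun h => hb0 (congrArg Subtype.val h)⟩⟩
  obtain ⟨j, hj0, hj⟩ := (hMp.to_subgroup ψ.ker).nontrivial_iff_card.mp inferInstance
  obtain ⟨c, hc⟩ := exists_prime_orderOf_dvd_card' (G := ψ.ker) p
    (hj ▸ dvd_pow_self p hj0.ne')
  have hc' : orderOf (((c : M) : G)) = p := by
    rw [Subgroup.orderOf_coe, Subgroup.orderOf_coe, hc]
  refine ⟨Subgroup.zpowers ((c : M) : G), zpowers_le.mpr (c : M).2.2,
    by rw [Nat.card_zpowers, hc'], relIndex_of_primitive τ.orderOf_ζ hc' hh ?_⟩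
  have h1 := congrArg Subtype.val (mul_inv_eq_one.mp (MonoidHom.mem_ker.mp c.2))
  exact h1

/-- `N(Z)` has a section `F(p)`. -/
theorem involves_fOver_H (hp : p ≠ 2) (τ : σ.Torus) :
    Cfsg.Involves ↥(Cfsg.fOver (ZMod p)) ↥σ.H := by
  classical
  obtain ⟨h', hh', hact⟩ := τ.good_conj
  set h := τ.a⁻¹ * h' * τ.a with hh
  have hactP : ∀ g ∈ τ.P, h * g * h⁻¹ = τ.t * g * τ.t⁻¹ := fun g hg => by
    have e := hact _ (conj_mem_cj τ.a hg)
    calc h * g * h⁻¹ = τ.a⁻¹ * (h' * (τ.a * g * τ.a⁻¹) * h'⁻¹) * τ.a := by rw [hh]; group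
      _ = _ := by rw [e]; group
  set H' := τ.a⁻¹ *• σ.H with hH'
  have hhH : h ∈ H' := mem_cj.mpr (by rw [hh]; group; exact hh')
  have hPH : τ.P ≤ H' := fun g hg =>
    mem_cj.mpr (by simpa using σ.le_norm (τ.conj_le (conj_mem_cj τ.a hg)))
  have hBP : τ.B ≤ τ.P := τ.B_le.trans τ.R_le
  have hBn : ∀ g : H', (∀ b ∈ τ.B, (g : G) * b * (g : G)⁻¹ ∈ τ.B) →
      g ∈ Subgroup.normalizer (τ.B.subgroupOf H' : Set H') := fun g hg =>
    mem_normalizer_of_forall_conj_mem fun b hb => hg b hb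
  have key : Cfsg.Involves ↥(Cfsg.fOver (ZMod p)) ↥H' := by
    refine involves_fOver hp (V := τ.P.subgroupOf H') (B2 := τ.B.subgroupOf H')
      (τ.P_p.comap_subtype) (comap_mono hBP) (u := ⟨τ.u, hPH τ.u_mem⟩) (h := ⟨h, hhH⟩) τ.u_mem ?_
      (hBn _ fun b hb => (τ.f_u b hb).1) (hBn _ fun b hb => ?_) (fun g => τ.f g)
      (fun a ha b hb => τ.f_add _ ha _ hb) (fun v => ?_) τ.ζ τ.orderOf_ζ
      (fun b hb => (τ.f_u _ hb).2) fun b hb => ?_
    · refine mem_normalizer_of_forall_conj_mem fun g hg => ?_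
      show h * (g : G) * h⁻¹ ∈ τ.P
      rw [hactP (g : G) hg]
      exact (mem_normalizer_iff.mp τ.t_norm _).mp hg
    · show h * b * h⁻¹ ∈ τ.B
      rw [hactP _ (hBP hb)]
      exact (τ.f_t b hb).1
    · obtain ⟨b, hb, hbv⟩ := τ.f_surj v
      exact ⟨⟨b, hPH (hBP hb)⟩, hb, hbv⟩
    · show τ.f (h * (b : G) * h⁻¹) = _
      rw [hactP (b : G) (hBP hb)]
      exact (τ.f_t _ hb).2
  let e : ↥σ.H ≃* ↥H' := σ.H.equivMapOfInjective _ (MulAut.conj τ.a⁻¹).injective
  exact involves_of_hom ⊤ (Subgroup.topEquiv.trans e).toMonoidHom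
    (Subgroup.topEquiv.trans e).surjective key

/-- **The structure of `N(Z)` in a setting.** -/
theorem failure_structure (hp : p ≠ 2) : Cfsg.Involves ↥(Cfsg.fOver (ZMod p)) ↥σ.H ∧
    ∃ C : Subgroup G, C ≤ σ.Z ∧ Nat.card C = p ∧
      (σ.H ⊓ Subgroup.centralizer (C : Set G)).relIndex
        (σ.H ⊓ Subgroup.normalizer (C : Set G)) = p - 1 := by
  obtain ⟨c⟩ := σ.exists_config hp
  obtain ⟨τ⟩ := σ.exists_torus hp c
  exact ⟨σ.involves_fOver_H hp τ, σ.exists_full_cyclic τ⟩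

end Setting

end CfsgLib.LocalEven.ZJFailure
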