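import Cfsg.Agent.LocalEven.QuadraticPlane
import Cfsg.Agent.ConjFunctor.Basic

/-!
# A plane on which a transvection and a torus element act

Two quadratic elements generating a group of matrices over the prime field which is not a
`p`-group, the first fixing a vector whose orbit spans: a `p`-subgroup containing the first, an
element of it and an element normalising it act on a quotient plane of an invariant subspace as a
transvection and as a generating torus element, the vector spanning the fixed line.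
-/

set_option autoImplicit false

namespace CfsgLib.LocalEven.ZJFailure

open Subgroup Matrix CfsgLib.Linear CfsgLib.ConjFunctor CfsgLib.LocalEven.SL2T
open scoped MatrixGroups

variable {p : ℕ} [Fact p.Prime]

/-- The diagonal element with entries `ζ`, `ζ⁻¹`. -/
abbrev torusMat (ζ : (ZMod p)ˣ) : Matrix (Fin 2) (Fin 2) (ZMod p) :=
  !![(ζ : ZMod p), 0; 0, ((ζ⁻¹ : (ZMod p)ˣ) : ZMod p)]

theorem exists_generator : ∃ ζ : (ZMod p)ˣ, orderOf ζ = p - 1 := by
  obtain ⟨ζ, hζ⟩ := IsCyclic.exists_generator (α := (ZMod p)ˣ)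
  exact ⟨ζ, by rw [orderOf_eq_card_of_forall_mem_zpowers hζ, Nat.card_eq_fintype_card,
    ZMod.card_units]⟩

variable {K : Type*} [Field K] [CharP K p]

/-- The entrywise image of a matrix over the prime field. -/
local notation "↑ᴷ" M:arg => Matrix.map M (ZMod.castHom (dvd_refl p) K)

/-- A group of `2 × 2` matrices containing `SL₂(p)` in some coordinates: coordinates adapted to a
Sylow subgroup. -/
theorem exists_adapted (hp : p ≠ 2) {X : Type*} [Group X] [Finite X] (φ : X →* SL(2, K)) {a b : X}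
    (ha : ∃ k, a ^ p ^ k = 1) {ν : K} (hν : ν ≠ 0) (hφa : φ a = upperUni ν)
    (hφb : φ b = lowerUni 1) (ζ : (ZMod p)ˣ) :
    ∃ (P : Subgroup X) (u t g : X) (N : Matrix (Fin 2) (Fin 2) K), IsPGroup p P ∧ a ∈ P ∧ u ∈ P ∧
      t ∈ Subgroup.normalizer (P : Set X) ∧ N.det ≠ 0 ∧ N *ᵥ Pi.single 0 1 = Pi.single 0 1 ∧
      (φ u).1 * N = N * ↑ᴷ ((upperUni (1 : ZMod p)).1) ∧ (φ t).1 * N = N * ↑ᴷ (torusMat ζ) ∧
      (φ g).1 * N = N * ↑ᴷ ((lowerUni (1 : ZMod p)).1) := by
  classical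
  set R := φ.range with hR
  have hsur : Function.Surjective φ.rangeRestrict := φ.rangeRestrict_surjective
  haveI : Finite R := Finite.of_surjective _ hsur
  obtain ⟨k, hk⟩ := ha
  have hza : IsPGroup p (Subgroup.zpowers a) := by
    intro x
    obtain ⟨i, hi⟩ := mem_zpowers_iff.mp x.2
    exact ⟨k, Subtype.ext (by
      rw [SubgroupClass.coe_pow, OneMemClass.coe_one, ← hi, ← zpow_natCast, ← _root_.zpow_mul,
        mul_comm, _root_.zpow_mul, zpow_natCast, hk, _root_.one_zpow])⟩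
  obtain ⟨P, hP⟩ := hza.exists_le_sylow
  have haP : a ∈ (P : Subgroup X) := hP (mem_zpowers a)
  set PR : Sylow p R := P.mapSurjective hsur with hPR
  -- `p`-elements of the range are unipotent
  have hunip : ∀ M : SL(2, K), ∀ j : ℕ, M ^ p ^ j = 1 → M.1.trace = 2 := fun M j hM =>
    trace_eq_two (sq_eq_zero_of_pow (m := p ^ j) (by
      rw [sub_pow_char_pow_of_commute p j (Commute.one_right _), one_pow,
        ← Matrix.SpecialLinearGroup.coe_pow, hM, Matrix.SpecialLinearGroup.coe_one, sub_self]))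
  have hupper : ∀ M : SL(2, K), M.1.trace = 2 → M.1 1 0 = 0 → M ∈ upperSL (F := K) := by
    intro M htr h10
    have hd : M.1.det = 1 := M.2
    rw [det_fin_two, h10, mul_zero, sub_zero] at hd
    rw [trace_fin_two] at htr
    have h00 : M.1 0 0 = 1 := by
      have h : (M.1 0 0 - 1) * (M.1 0 0 - 1) = 0 := by
        linear_combination -hd + M.1 0 0 * htr
      exact sub_eq_zero.mp (mul_self_eq_zero.mp h)
    refine mem_upperSL.mpr ⟨M.1 0 1, Subtype.ext ?_⟩
    rw [upperUni_val]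
    ext i j
    fin_cases i <;> fin_cases j <;> simp [h10, h00]
    linear_combination h00 - htr
  have hPup : ∀ x ∈ (P : Subgroup X), φ x ∈ upperSL (F := K) := by
    intro x hx
    have htr : ∀ y ∈ (P : Subgroup X), (φ y).1.trace = 2 := fun y hy => by
      obtain ⟨j, hj⟩ := P.isPGroup' ⟨y, hy⟩
      exact hunip _ j (by rw [← map_pow, show y ^ p ^ j = 1 from congrArg Subtype.val hj, map_one])
    refine hupper _ (htr x hx) ?_
    have h := htr (x * a) (mul_mem hx haP)
    rw [map_mul, hφa, Matrix.SpecialLinearGroup.coe_mul, upperUni_val] at h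
    have h' := htr x hx
    simp [trace_fin_two, Matrix.mul_apply, Fin.sum_univ_two] at h h'
    exact (mul_eq_zero.mp (by linear_combination h - h' : (φ x).1 1 0 * ν = 0)).resolve_right hν
  set U0 : Subgroup R := (upperSL (F := K)).subgroupOf R with hU0
  have hU0p : IsPGroup p U0 := by
    intro x
    obtain ⟨c, hc⟩ := mem_upperSL.mp (mem_subgroupOf.mp x.2)
    refine ⟨1, Subtype.ext (Subtype.ext ?_)⟩
    rw [SubgroupClass.coe_pow, SubgroupClass.coe_pow, ← hc, pow_one, upperUni_pow,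
      CharP.cast_eq_zero, zero_mul, upperUni_zero]
    rfl
  have hPU : (PR : Subgroup R) = U0 := by
    refine (PR.3 hU0p ?_).symm
    rw [hPR, Sylow.coe_mapSurjective]
    rintro _ ⟨x, hx, rfl⟩
    exact mem_subgroupOf.mpr (hPup x hx)
  have hlift : ∀ x : X, φ x ∈ upperSL (F := K) → ∃ y ∈ (P : Subgroup X), φ y = φ x := by
    intro x hx
    have hm : φ.rangeRestrict x ∈ (PR : Subgroup R) := hPU ▸ mem_subgroupOf.mpr hx
    rw [hPR, Sylow.coe_mapSurjective] at hm
    obtain ⟨y, hy, hyx⟩ := hm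
    exact ⟨y, hy, congrArg Subtype.val hyx⟩
  -- the standard subgroup
  have h1 : ((φ.rangeRestrict a).1.1 - 1) * ((φ.rangeRestrict a).1.1 - 1) = 0 := by
    rw [MonoidHom.coe_rangeRestrict, hφa, upperUni_val]
    ext i j
    fin_cases i <;> fin_cases j <;> simp [Matrix.mul_apply, Fin.sum_univ_two]
  have h2 : ((φ.rangeRestrict b).1.1 - 1) * ((φ.rangeRestrict b).1.1 - 1) = 0 := by
    rw [MonoidHom.coe_rangeRestrict, hφb, lowerUni_val]
    ext i j
    fin_cases i <;> fin_cases j <;> simp [Matrix.mul_apply, Fin.sum_univ_two]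
  obtain ⟨Q, ψ, -, hψ⟩ := exists_sl2_hom (p := p) hp R.subtype R.subtype_injective
    (x := φ.rangeRestrict a) (y := φ.rangeRestrict b) h1 h2 (by
      intro h
      have h' := congrArg (fun z : R => (z : SL(2, K)).1 0 0) h
      simp [hφa, hφb, upperUni_val, lowerUni_val, Matrix.mul_apply, Fin.sum_univ_two] at h'
      exact hν h')
  have hcjle : ∃ c : R, c * ψ (upperUni 1) * c⁻¹ ∈ U0 := by
    have hu : IsPGroup p (Subgroup.zpowers (ψ (upperUni (1 : ZMod p)))) := by
      intro x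
      obtain ⟨i, hi⟩ := mem_zpowers_iff.mp x.2
      refine ⟨1, Subtype.ext ?_⟩
      rw [SubgroupClass.coe_pow, OneMemClass.coe_one, ← hi, pow_one, ← zpow_natCast,
        ← _root_.zpow_mul, mul_comm, _root_.zpow_mul, zpow_natCast, ← map_pow, upperUni_pow,
        CharP.cast_eq_zero, zero_mul, upperUni_zero, map_one, _root_.one_zpow]
    obtain ⟨c, -, hc⟩ := (isSylowIn_top PR).exists_cj_le le_top hu
    exact ⟨c, hPU ▸ hc (conj_mem_cj c (mem_zpowers _))⟩
  obtain ⟨c, hc⟩ := hcjle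
  obtain ⟨c₀, hc₀⟩ := hsur c
  set M0 : Matrix (Fin 2) (Fin 2) K := (φ c₀).1 * Q.1 with hM0
  have hM0det : M0.det ≠ 0 := by
    rw [hM0, Matrix.det_mul, (φ c₀).2, one_mul]
    exact (Matrix.isUnits_det_units Q).ne_zero
  choose L hL using fun M : SL(2, ZMod p) => hsur (ψ M)
  have hlift' : ∀ M : SL(2, ZMod p), (φ (c₀ * L M * c₀⁻¹)).1 * M0 = M0 * ↑ᴷ M.1 := by
    intro M
    have h := hψ M
    rw [Subgroup.coe_subtype, ← hL M] at h
    rw [hM0, map_mul, map_mul, map_inv, Matrix.SpecialLinearGroup.coe_mul,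
      Matrix.SpecialLinearGroup.coe_mul]
    calc (φ c₀).1 * (φ (L M)).1 * ((φ c₀)⁻¹).1 * ((φ c₀).1 * Q.1)
        = (φ c₀).1 * (φ (L M)).1 * (((φ c₀)⁻¹).1 * (φ c₀).1) * Q.1 := by simp only [mul_assoc]
      _ = (φ c₀).1 * ((φ.rangeRestrict (L M) : SL(2, K)).1 * Q.1) := by
          rw [← Matrix.SpecialLinearGroup.coe_mul ((φ c₀)⁻¹), inv_mul_cancel,
            Matrix.SpecialLinearGroup.coe_one, mul_one, mul_assoc]
          rfl
      _ = _ := by rw [h, ← mul_assoc]
  have hu0 : φ (c₀ * L (upperUni 1) * c₀⁻¹) ∈ upperSL (F := K) := by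
    have h := mem_subgroupOf.mp hc
    rw [← hc₀, ← hL (upperUni 1), ← map_inv, ← map_mul, ← map_mul] at h
    exact h
  obtain ⟨μ, hμ⟩ := mem_upperSL.mp hu0
  obtain ⟨u, huP, hu⟩ := hlift _ hu0
  have hU : ↑ᴷ ((upperUni (1 : ZMod p)).1) = !![1, 1; 0, 1] := by
    rw [upperUni_val]
    ext i j
    fin_cases i <;> fin_cases j <;> simp
  have hM10 : M0 1 0 = 0 := by
    have h := hlift' (upperUni 1)
    rw [← hμ, upperUni_val, hU] at h
    have h' := congrFun (congrFun h 1) 1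
    simp [Matrix.mul_apply, Fin.sum_univ_two] at h'
    exact h'
  have hM00 : M0 0 0 ≠ 0 := fun h0 => hM0det (by rw [det_fin_two, h0, hM10, zero_mul, mul_zero, sub_zero])
  have hM11 : M0 1 1 ≠ 0 := fun h0 => hM0det (by rw [det_fin_two, h0, hM10, mul_zero, mul_zero, sub_zero])
  set N : Matrix (Fin 2) (Fin 2) K := (M0 0 0)⁻¹ • M0 with hN
  have hNeq : ∀ (x : X) (M : Matrix (Fin 2) (Fin 2) K), (φ x).1 * M0 = M0 * M →
      (φ x).1 * N = N * M := fun x M h => by rw [hN, mul_smul_comm, smul_mul_assoc, h]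
  -- the torus element normalises `P`
  let D : SL(2, ZMod p) := ⟨torusMat ζ, by
    rw [torusMat, det_fin_two_of, mul_zero, sub_zero, ← Units.val_mul, mul_inv_cancel, Units.val_one]⟩
  set t₀ := c₀ * L D * c₀⁻¹ with ht₀
  have ht10 : (φ t₀).1 1 0 = 0 := by
    have h := congrFun (congrFun (hlift' D) 1) 0
    rw [Matrix.mul_apply, Matrix.mul_apply, Fin.sum_univ_two, Fin.sum_univ_two, hM10] at h
    simp only [D, torusMat, Matrix.map_apply, of_apply, cons_val_zero, cons_val_one, cons_val',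
      cons_val_fin_one, empty_val', mul_zero, zero_mul, map_zero, add_zero, zero_add,
      mul_eq_zero] at h
    exact h.resolve_right hM00
  set A : Subgroup X := (upperSL (F := K)).comap φ with hA
  have hPA : (P : Subgroup X) ≤ A := fun x hx => hPup x hx
  have htA : t₀ *• (P : Subgroup X) ≤ A := by
    refine cj_le_iff.mpr fun x hx => mem_comap.mpr (hupper _ ?_ ?_)
    · obtain ⟨j, hj⟩ := P.isPGroup' ⟨x, hx⟩
      refine hunip _ j ?_
      rw [← map_pow, conj_pow, show x ^ p ^ j = 1 from congrArg Subtype.val hj, mul_one,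
        mul_inv_cancel, map_one]
    · obtain ⟨y, hy⟩ := mem_upperSL.mp (hPup x hx)
      rw [map_mul, map_mul, map_inv, ← hy, Matrix.SpecialLinearGroup.coe_mul,
        Matrix.SpecialLinearGroup.coe_mul, Matrix.SpecialLinearGroup.coe_inv, adjugate_fin_two,
        upperUni_val]
      simp [Matrix.mul_apply, Fin.sum_univ_two, ht10]
  have hsylA : IsSylowIn p (P : Subgroup X) A := (isSylowIn_top P).of_le hPA le_top
  obtain ⟨a', ha'A, ha'⟩ := hsylA.exists_cj_eq (T' := t₀ *• (P : Subgroup X))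
    (((isSylowIn_top P).cj t₀).of_le htA (by
      rw [map_top_of_surjective _ (MulAut.conj t₀).surjective]; exact le_top))
  obtain ⟨p', hp', hpa⟩ := hlift a' ha'A
  refine ⟨(P : Subgroup X), u, p'⁻¹ * a' * t₀, c₀ * L (lowerUni 1) * c₀⁻¹, N, P.isPGroup', haP, huP,
    mem_normalizer_iff_cj.mpr ?_, ?_, ?_, ?_, ?_, hNeq _ _ (hlift' _)⟩
  · rw [← cj_cj, ← cj_cj, ha', cj_self_of_mem (inv_mem hp')]
  · rw [hN, det_smul]
    exact mul_ne_zero (pow_ne_zero _ (inv_ne_zero hM00)) hM0det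
  · ext i
    fin_cases i <;> simp [hN, hM10, hM00, Matrix.mulVec, dotProduct, Fin.sum_univ_two]
  · refine hNeq _ _ ?_
    rw [hu]
    exact hlift' _
  · refine hNeq _ _ ?_
    rw [map_mul, map_mul, map_inv, hpa, inv_mul_cancel, one_mul]
    exact hlift' D

/-- **The plane.** -/
theorem exists_torus_plane (hp : p ≠ 2) {n : ℕ} {X : Type*} [Group X] [Finite X]
    (m : X →* Matrix (Fin n) (Fin n) (ZMod p)) {a b : X}
    (hgen : Subgroup.closure ({a, b} : Set X) = ⊤) (ha : (m a - 1) * (m a - 1) = 0)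
    (hb : (m b - 1) * (m b - 1) = 0) (hap : ∃ k, a ^ p ^ k = 1)
    (hnp : ∃ g : X, ∀ k : ℕ, m (g ^ p ^ k) ≠ 1) {w : Fin n → ZMod p} (hw : m a *ᵥ w = w)
    (hspan : Submodule.span (ZMod p) (Set.range fun g : X => m g *ᵥ w) = ⊤) :
    ∃ (P : Subgroup X) (u t : X) (ζ : (ZMod p)ˣ) (W' : Submodule (ZMod p) (Fin n → ZMod p))
      (π : (Fin n → ZMod p) →ₗ[ZMod p] (Fin 2 → ZMod p)),
      IsPGroup p P ∧ a ∈ P ∧ u ∈ P ∧ t ∈ Subgroup.normalizer (P : Set X) ∧ orderOf ζ = p - 1 ∧
      w ∈ W' ∧ π w = Pi.single 0 1 ∧ W'.map π = ⊤ ∧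
      (∀ v ∈ W', m u *ᵥ v ∈ W' ∧ π (m u *ᵥ v) = (upperUni (1 : ZMod p)).1 *ᵥ π v) ∧
      ∀ v ∈ W', m t *ᵥ v ∈ W' ∧ π (m t *ᵥ v) = torusMat ζ *ᵥ π v := by
  classical
  obtain ⟨ζ, hζ⟩ := exists_generator (p := p)
  let K := AlgebraicClosure (ZMod p)
  haveI : CharP K p := charP_of_injective_algebraMap (algebraMap (ZMod p) K).injective p
  let mK : Matrix (Fin n) (Fin n) (ZMod p) →+* Matrix (Fin n) (Fin n) K :=
    (algebraMap (ZMod p) K).mapMatrix
  have hmK : Function.Injective mK := Matrix.map_injective (algebraMap (ZMod p) K).injective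
  let T : Matrix (Fin n) (Fin n) K ≃ₐ[K] Module.End K (Fin n → K) := Matrix.toLinAlgEquiv'
  -- the dual representation
  let ρ : X →* Module.End K (Fin n → K) :=
    { toFun := fun g => T (mK (m g⁻¹))ᵀ
      map_one' := by rw [inv_one, map_one, map_one, transpose_one, map_one]
      map_mul' := fun g h => by rw [_root_.mul_inv_rev, map_mul, map_mul, transpose_mul, map_mul] }
  have hρ : ∀ g, ρ g = T (mK (m g⁻¹))ᵀ := fun g => rfl
  have hquad : ∀ g, (m g - 1) * (m g - 1) = 0 → (ρ g - 1) * (ρ g - 1) = 0 := fun g hg => by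
    have h1 : (m g⁻¹ - 1) * (m g⁻¹ - 1) = 0 := by
      have e1 : m g⁻¹ * m g = 1 := by rw [← map_mul, inv_mul_cancel, map_one]
      have e2 : m g * m g⁻¹ = 1 := by rw [← map_mul, mul_inv_cancel, map_one]
      calc (m g⁻¹ - 1) * (m g⁻¹ - 1) = m g⁻¹ * ((m g - 1) * (m g - 1)) * m g⁻¹ := by
            simp only [mul_sub, sub_mul, mul_one, one_mul, ← mul_assoc, e1]
            simp only [mul_assoc, e2, mul_one]
            abel
        _ = 0 := by rw [hg, mul_zero, zero_mul]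
    rw [hρ, ← map_one T, ← transpose_one, ← map_one mK, ← map_sub, ← transpose_sub, ← map_sub,
      ← map_mul, ← transpose_mul, ← map_mul, h1, map_zero, transpose_zero, map_zero]
  obtain ⟨ι, φ, ν, hι, hν, hφa, hφb, hint⟩ := CfsgLib.LocalEven.exists_plane (p := p) ρ hgen
    (hquad a ha) (hquad b hb) (f := (mK (m (a * b)⁻¹))ᵀ.charpoly) (Matrix.charpoly_monic _)
    (IsAlgClosed.splits _) (by
      refine ⟨1, ?_⟩
      rw [pow_one, hρ]
      show Polynomial.aeval (T.toAlgHom (mK (m (a * b)⁻¹))ᵀ) _ = 0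
      rw [Polynomial.aeval_algHom_apply, Matrix.aeval_self_charpoly, map_zero]) (by
      obtain ⟨g, hg⟩ := hnp
      refine ⟨g, fun k hk => hg k ?_⟩
      have h1 : m (g ^ p ^ k)⁻¹ = 1 :=
        hmK (transpose_injective (T.injective (by rw [map_one, transpose_one, map_one]; exact hk)))
      have h2 := congrArg (m (g ^ p ^ k) * ·) h1
      simp only [mul_one] at h2
      rw [← h2, ← map_mul, mul_inv_cancel, map_one])
  -- the equivariant map to the plane
  let cast : (Fin n → ZMod p) → (Fin n → K) := fun v => algebraMap (ZMod p) K ∘ v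
  have hcast : ∀ (M : Matrix (Fin n) (Fin n) (ZMod p)) v, cast (M *ᵥ v) = mK M *ᵥ cast v :=
    fun M v => funext fun i => RingHom.map_mulVec _ _ _ _
  let L : (Fin 2 → K) → (Fin n → ZMod p) → K := fun c v => ι c ⬝ᵥ cast v
  let e0 : Fin 2 → K := Pi.single 0 1
  let e1 : Fin 2 → K := Pi.single 1 1
  let π0 : (Fin n → ZMod p) →ₗ[ZMod p] (Fin 2 → K) :=
    { toFun := fun v => ![-L e1 v, L e0 v]
      map_add' := fun v v' => by
        have hc : cast (v + v') = cast v + cast v' := funext fun i => map_add _ _ _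
        ext i
        fin_cases i <;> simp [L, hc, dotProduct_add, add_comm]
      map_smul' := fun c v => by
        have hc : cast (c • v) = algebraMap (ZMod p) K c • cast v := funext fun i => map_mul _ _ _
        ext i
        fin_cases i <;> simp only [L, hc, dotProduct_smul] <;> simp [Algebra.smul_def] <;> ring }
  have hπ0g : ∀ g v, π0 (m g *ᵥ v) = (φ g).1 *ᵥ π0 v := by
    intro g v
    have hL : ∀ c, L c (m g *ᵥ v) = L ((φ g⁻¹).1 *ᵥ c) v := fun c => by
      show ι c ⬝ᵥ cast (m g *ᵥ v) = ι ((φ g⁻¹).1 *ᵥ c) ⬝ᵥ cast v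
      rw [hcast, ← hint, hρ, inv_inv, dotProduct_mulVec, ← mulVec_transpose]
      rfl
    have hLc : ∀ c, L c v = c 0 * L e0 v + c 1 * L e1 v := fun c => by
      show ι c ⬝ᵥ cast v = c 0 * (ι e0 ⬝ᵥ cast v) + c 1 * (ι e1 ⬝ᵥ cast v)
      conv_lhs => rw [show c = c 0 • e0 + c 1 • e1 from by
        ext i; fin_cases i <;> simp [e0, e1]]
      rw [map_add, map_smul, map_smul, add_dotProduct, smul_dotProduct, smul_dotProduct,
        smul_eq_mul, smul_eq_mul]
    show ![-L e1 (m g *ᵥ v), L e0 (m g *ᵥ v)] = (φ g).1 *ᵥ ![-L e1 v, L e0 v]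
    rw [hL, hL, hLc ((φ g⁻¹).1 *ᵥ e1), hLc ((φ g⁻¹).1 *ᵥ e0), map_inv,
      Matrix.SpecialLinearGroup.coe_inv, adjugate_fin_two]
    ext i
    fin_cases i <;> simp [e0, e1, Matrix.mulVec, dotProduct, Fin.sum_univ_two] <;> ring
  have hπ0w : π0 w ≠ 0 := by
    intro h0
    have hz : π0 = 0 := by
      refine LinearMap.ext_on hspan ?_
      rintro _ ⟨g, rfl⟩
      show π0 (m g *ᵥ w) = 0
      rw [hπ0g, h0, Matrix.mulVec_zero]
    have h1 : ι e0 = 0 := by
      funext i
      have h := congrFun (LinearMap.congr_fun hz (Pi.single i 1)) 1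
      have hc : cast (Pi.single i 1) = Pi.single i 1 := by
        funext j
        simp [cast, Pi.single_apply, apply_ite (algebraMap (ZMod p) K)]
      simpa [π0, L, hc] using h
    have h2 := congrFun (hι (h1.trans (map_zero ι).symm)) 0
    simp [e0] at h2
  have hfix := hπ0g a w
  rw [hw, hφa, upperUni_val] at hfix
  have hw1 : π0 w 1 = 0 := by
    have h := congrFun hfix 0
    simp [Matrix.mulVec, dotProduct, Fin.sum_univ_two] at h
    exact h.resolve_left hν
  have hc0 : π0 w 0 ≠ 0 := fun h => hπ0w (funext fun i => by fin_cases i <;> simp [h, hw1])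
  let π1 : (Fin n → ZMod p) →ₗ[ZMod p] (Fin 2 → K) :=
    ((π0 w 0)⁻¹ • (LinearMap.id : (Fin 2 → K) →ₗ[K] (Fin 2 → K))).restrictScalars (ZMod p) ∘ₗ π0
  have hπ1 : ∀ v, π1 v = (π0 w 0)⁻¹ • π0 v := fun v => rfl
  have hπ1g : ∀ g v, π1 (m g *ᵥ v) = (φ g).1 *ᵥ π1 v := fun g v => by
    rw [hπ1, hπ1, hπ0g, Matrix.mulVec_smul]
  have hπ1w : π1 w = e0 := by
    rw [hπ1]
    ext i
    fin_cases i <;> simp [e0, hw1, inv_mul_cancel₀ hc0]
  obtain ⟨P, u, t, g, N, hP, haP, huP, htP, hNd, hN0, hu, ht, hg⟩ :=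
    exists_adapted (p := p) hp φ hap hν hφa hφb ζ
  -- the lattice
  let castH := ZMod.castHom (dvd_refl p) K
  let j : (Fin 2 → ZMod p) →ₗ[ZMod p] (Fin 2 → K) :=
    { toFun := fun v => N *ᵥ (castH ∘ v)
      map_add' := fun v v' => by
        rw [← Matrix.mulVec_add]; congr 1; funext i; exact map_add _ _ _
      map_smul' := fun c v => by
        rw [RingHom.id_apply, ← IsScalarTower.algebraMap_smul K c (N *ᵥ (castH ∘ v)),
          ← Matrix.mulVec_smul]
        congr 1; funext i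
        simp [castH, Subsingleton.elim (ZMod.castHom (dvd_refl p) K) (algebraMap (ZMod p) K)] }
  have hj : ∀ v, j v = N *ᵥ (castH ∘ v) := fun v => rfl
  have hjinj : Function.Injective j := fun v v' h => by
    have h' := Matrix.mulVec_injective_of_isUnit ((Matrix.isUnit_iff_isUnit_det N).mpr hNd.isUnit) h
    exact funext fun i => castH.injective (congrFun h' i)
  obtain ⟨l, hl⟩ := j.exists_leftInverse_of_injective (LinearMap.ker_eq_bot.mpr hjinj)
  have hlj : ∀ v, l (j v) = v := LinearMap.congr_fun hl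
  have hje0 : j (Pi.single 0 1) = e0 := by
    rw [hj, show castH ∘ Pi.single (0 : Fin 2) (1 : ZMod p) = Pi.single 0 1 from funext fun i => by
      fin_cases i <;> simp]
    exact hN0
  set W' := (LinearMap.range j).comap π1 with hW'
  have hjact : ∀ (x : X) (M : Matrix (Fin 2) (Fin 2) (ZMod p)),
      (φ x).1 * N = N * M.map castH → ∀ v ∈ W', m x *ᵥ v ∈ W' ∧
        (l ∘ₗ π1) (m x *ᵥ v) = M *ᵥ (l ∘ₗ π1) v := by
    intro x M hx v hv
    obtain ⟨c, hc⟩ := hv
    have h1 : π1 (m x *ᵥ v) = j (M *ᵥ c) := by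
      rw [hπ1g, ← hc, hj, hj, Matrix.mulVec_mulVec, hx, ← Matrix.mulVec_mulVec]
      congr 1
      funext i
      exact (RingHom.map_mulVec castH M c i).symm
    refine ⟨⟨_, h1.symm⟩, ?_⟩
    show l (π1 _) = M *ᵥ l (π1 v)
    rw [h1, ← hc, hlj, hlj]
  have hgw : π1 (m g *ᵥ w) = j ![1, 1] := by
    rw [hπ1g, hπ1w, ← hje0, hj, Matrix.mulVec_mulVec, hg, ← Matrix.mulVec_mulVec, hj]
    congr 1
    funext i
    rw [lowerUni_val]
    fin_cases i <;> simp [Matrix.mulVec, dotProduct, Fin.sum_univ_two]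
  have hwW : w ∈ W' := ⟨Pi.single 0 1, hje0.trans hπ1w.symm⟩
  have hπw : (l ∘ₗ π1) w = Pi.single 0 1 := by
    show l (π1 w) = _
    rw [hπ1w, ← hje0, hlj]
  refine ⟨P, u, t, ζ, W', l ∘ₗ π1, hP, haP, huP, htP, hζ, hwW, hπw, ?_,
    hjact u _ hu, hjact t _ ht⟩
  rw [eq_top_iff]
  intro c _
  refine ⟨c 1 • (m g *ᵥ w) + (c 0 - c 1) • w,
    add_mem (Submodule.smul_mem _ _ ⟨![1, 1], hgw.symm⟩) (Submodule.smul_mem _ _ hwW), ?_⟩
  have hgl : (l ∘ₗ π1) (m g *ᵥ w) = ![1, 1] := by
    show l (π1 _) = _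
    rw [hgw, hlj]
  rw [map_add, map_smul, map_smul, hπw, hgl]
  ext i
  fin_cases i <;> simp

end CfsgLib.LocalEven.ZJFailure
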