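import Cfsg.Agent.LocalEven.ZJFailure.Config
import Cfsg.Agent.LocalEven.ZJFailure.Plane

/-!
# Failure of fusion control by `Z(J(S))`: the module of the configuration

The subgroup generated by two conjugate quadratic elements gives a group of matrices on the span of
the orbit of `z`, to which the plane criterion applies.
-/

set_option autoImplicit false

namespace CfsgLib.LocalEven.ZJFailure

open Subgroup Matrix CfsgLib.ConjFunctor CfsgLib.LocalEvenBasic CfsgLib.Linear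
open scoped commutatorElement MatrixGroups

variable {p : ℕ} [Fact p.Prime]

/-- Coordinates on an elementary abelian subgroup. -/
theorem exists_coords {Q : Type*} [Group Q] [Finite Q] (W : Subgroup Q)
    (hc : ∀ a ∈ W, ∀ b ∈ W, a * b = b * a) (hp : ∀ a ∈ W, a ^ p = 1) :
    ∃ (n : ℕ) (ξ : Q → (Fin n → ZMod p)), (∀ a ∈ W, ∀ b ∈ W, ξ (a * b) = ξ a + ξ b) ∧
      (∀ a ∈ W, ∀ b ∈ W, ξ a = ξ b → a = b) ∧ ∀ v, ∃ a ∈ W, ξ a = v := by
  classical
  haveI : IsMulCommutative W := ⟨⟨fun a b => Subtype.ext (hc _ a.2 _ b.2)⟩⟩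
  have hexp : ∀ v : Additive W, p • v = 0 := fun v =>
    Additive.toMul.injective (show v.toMul ^ p = 1 from
      Subtype.ext (by simpa using hp _ v.toMul.2))
  open scoped IsMulCommutative in
  obtain ⟨n, ⟨e⟩⟩ : ∃ n, Nonempty (Additive W ≃+ (Fin n → ZMod p)) := by
    letI inst : Module (ZMod p) (Additive W) := AddCommGroup.zmodModule hexp
    have hf : @Module.Finite (ZMod p) (Additive W) _ _ inst :=
      @Module.Finite.of_finite _ _ _ _ inst _
    exact ⟨_, ⟨(@Module.finBasis (ZMod p) (Additive W) _ _ inst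
      (@Module.Free.of_divisionRing (ZMod p) (Additive W) _ _ inst) _ hf).equivFun.toAddEquiv⟩⟩
  refine ⟨n, fun a => if h : a ∈ W then e (Additive.ofMul ⟨a, h⟩) else 0, fun a ha b hb => ?_,
    fun a ha b hb h => ?_, fun v => ?_⟩
  · simp only [dif_pos ha, dif_pos hb, dif_pos (mul_mem ha hb), ← map_add]
    rfl
  · simp only [dif_pos ha, dif_pos hb] at h
    exact congrArg Subtype.val (Additive.ofMul.injective (e.injective h))
  · refine ⟨_, (e.symm v).toMul.2, ?_⟩
    simp only [SetLike.coe_mem, dite_true, Subtype.coe_eta, ofMul_toMul, e.apply_symm_apply]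

/-- A subgroup of the normaliser of an elementary abelian subgroup acts by matrices in coordinates. -/
theorem exists_rep {Q : Type*} [Group Q] {W : Subgroup Q} {n : ℕ} {ξ : Q → (Fin n → ZMod p)}
    (hadd : ∀ a ∈ W, ∀ b ∈ W, ξ (a * b) = ξ a + ξ b)
    (hinj : ∀ a ∈ W, ∀ b ∈ W, ξ a = ξ b → a = b) (hsurj : ∀ v, ∃ a ∈ W, ξ a = v)
    {X : Type*} [Group X] (f : X →* Q) (hf : ∀ g, f g ∈ Subgroup.normalizer (W : Set Q)) :
    ∃ m : X →* Matrix (Fin n) (Fin n) (ZMod p),
      ∀ g, ∀ a ∈ W, m g *ᵥ ξ a = ξ (f g * a * (f g)⁻¹) := by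
  choose s hs hs' using hsurj
  have hcj : ∀ g, ∀ a ∈ W, f g * a * (f g)⁻¹ ∈ W := fun g a ha =>
    (mem_normalizer_iff.mp (hf g) a).mp ha
  let T : X → ((Fin n → ZMod p) →+ (Fin n → ZMod p)) := fun g =>
    AddMonoidHom.mk' (fun v => ξ (f g * s v * (f g)⁻¹)) fun v v' => by
      show ξ (f g * s (v + v') * (f g)⁻¹) = _
      rw [← hadd _ (hcj g _ (hs v)) _ (hcj g _ (hs v')),
        hinj _ (hs _) _ (mul_mem (hs v) (hs v')) (by rw [hs', hadd _ (hs v) _ (hs v'), hs', hs'])]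
      congr 1
      group
  have hT : ∀ g, ∀ a ∈ W, T g (ξ a) = ξ (f g * a * (f g)⁻¹) := fun g a ha => by
    show ξ (f g * s (ξ a) * (f g)⁻¹) = _
    rw [hinj _ (hs _) _ ha (hs' _)]
  let M : X → Matrix (Fin n) (Fin n) (ZMod p) := fun g =>
    LinearMap.toMatrix' ((T g).toZModLinearMap p)
  have hM : ∀ g, ∀ a ∈ W, M g *ᵥ ξ a = ξ (f g * a * (f g)⁻¹) := fun g a ha => by
    show LinearMap.toMatrix' _ *ᵥ ξ a = _
    rw [LinearMap.toMatrix'_mulVec]
    exact hT g a ha
  have hext : ∀ A B : Matrix (Fin n) (Fin n) (ZMod p), (∀ a ∈ W, A *ᵥ ξ a = B *ᵥ ξ a) → A = B :=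
    fun A B h => Matrix.toLin'.injective (LinearMap.ext fun v => by
      rw [Matrix.toLin'_apply, Matrix.toLin'_apply, ← hs' v]; exact h _ (hs v))
  exact ⟨{ toFun := M
           map_one' := hext _ _ fun a ha => by
             rw [hM 1 a ha, map_one, inv_one, one_mul, mul_one, Matrix.one_mulVec]
           map_mul' := fun g g' => hext _ _ fun a ha => by
             rw [hM _ a ha, ← Matrix.mulVec_mulVec, hM g' a ha, hM g _ (hcj g' a ha), map_mul]
             congr 1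
             group }, hM⟩

namespace Setting

variable {G : Type*} [Group G] [Finite G] (σ : Setting p G)

/-- What the configuration gives on a plane. -/
structure Torus where
  /-- The subgroup of the configuration. -/
  R : Subgroup G
  /-- A `p`-subgroup. -/
  P : Subgroup G
  /-- The preimage of the invariant subspace. -/
  B : Subgroup G
  /-- An element acting as a transvection. -/
  u : G
  /-- An element acting as a torus element. -/
  t : G
  /-- A conjugating element. -/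
  a : G
  /-- The torus parameter. -/
  ζ : (ZMod p)ˣ
  /-- The map to the plane. -/
  f : G → (Fin 2 → ZMod p)
  P_p : IsPGroup p P
  R_le : R ≤ P
  B_le : B ≤ R
  u_mem : u ∈ P
  t_norm : t ∈ Subgroup.normalizer (P : Set G)
  orderOf_ζ : orderOf ζ = p - 1
  z_mem : σ.z ∈ B
  f_z : f σ.z = Pi.single 0 1
  f_add : ∀ b ∈ B, ∀ b' ∈ B, f (b * b') = f b + f b'
  f_surj : ∀ v, ∃ b ∈ B, f b = v
  f_u : ∀ b ∈ B, u * b * u⁻¹ ∈ B ∧ f (u * b * u⁻¹) = (upperUni (1 : ZMod p)).1 *ᵥ f b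
  f_t : ∀ b ∈ B, t * b * t⁻¹ ∈ B ∧ f (t * b * t⁻¹) = torusMat ζ *ᵥ f b
  good_t : σ.Good R t
  conj_le : a *• P ≤ σ.S
  good_conj : σ.Good (a *• P) (a * t * a⁻¹)

theorem exists_torus (hp : p ≠ 2) (c : Config σ) : Nonempty σ.Torus := by
  classical
  set L := Subgroup.normalizer (c.R : Set G) with hL
  set y := c.n * c.x * c.n⁻¹ with hy
  have hyL : y ∈ L := mul_mem (mul_mem c.n_norm c.x_norm) (inv_mem c.n_norm)
  set X : Subgroup G := Subgroup.closure {c.x, y} with hX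
  have hXL : X ≤ L := (closure_le _).mpr (by
    rintro g (rfl | rfl)
    exacts [c.x_norm, hyL])
  -- the orbit of `z`
  set W0 := c.B.map σ.q with hW0
  set W := Subgroup.closure (Set.range fun g : X => σ.q ((g : G) * σ.z * (g : G)⁻¹)) with hW
  have hWW : W ≤ W0 := (closure_le _).mpr (by
    rintro _ ⟨g, rfl⟩
    exact mem_map_of_mem σ.q ((mem_normalizer_iff.mp (c.B_norm (hXL g.2)) _).mp c.z_mem))
  have hzW : σ.q σ.z ∈ W := subset_closure ⟨1, by simp⟩
  let f : X →* G ⧸ σ.Y := σ.q.comp X.subtype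
  have hfW : ∀ g, f g ∈ Subgroup.normalizer (W : Set (G ⧸ σ.Y)) := fun g => by
    refine mem_normalizer_of_cj_le ?_
    rw [hW, MonoidHom.map_closure]
    refine closure_mono ?_
    rintro _ ⟨_, ⟨g', rfl⟩, rfl⟩
    refine ⟨g * g', ?_⟩
    show σ.q ((g : G) * (g' : G) * σ.z * ((g : G) * (g' : G))⁻¹) =
      σ.q (g : G) * σ.q ((g' : G) * σ.z * (g' : G)⁻¹) * (σ.q (g : G))⁻¹
    simp only [map_mul, map_inv]
    group
  obtain ⟨d, ξ, hadd, hinj, hsurj⟩ := exists_coords (p := p) W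
    (fun a ha b hb => by
      obtain ⟨a, ha', rfl⟩ := hWW ha
      obtain ⟨b, hb', rfl⟩ := hWW hb
      exact c.B_comm a ha' b hb')
    fun a ha => by
      obtain ⟨a, ha', rfl⟩ := hWW ha
      exact c.B_pow a ha'
  obtain ⟨m, hm⟩ := exists_rep hadd hinj hsurj f hfW
  have hξ1 : ξ 1 = 0 := by
    have h := hadd 1 (one_mem _) 1 (one_mem _)
    rwa [mul_one, left_eq_add] at h
  -- quadratic action
  have hquad : ∀ g : X, σ.Quad c.B g → (m g - 1) * (m g - 1) = 0 := by
    intro g hg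
    refine Matrix.toLin'.injective (LinearMap.ext fun v => ?_)
    obtain ⟨w, hwW, rfl⟩ := hsurj v
    rw [Matrix.toLin'_apply, map_zero, LinearMap.zero_apply]
    have hstep : ∀ a ∈ W, ⁅a, f g⁆ ∈ W ∧ ξ ⁅a, f g⁆ = -((m g - 1) *ᵥ ξ a) := fun a ha => by
      have hc := (mem_normalizer_iff.mp (hfW g) _).mp (inv_mem ha)
      have e : ⁅a, f g⁆ = a * (f g * a⁻¹ * (f g)⁻¹) := by rw [commutatorElement_def]; group
      have hi : ξ a⁻¹ = -ξ a := by
        have h := hadd a⁻¹ (inv_mem ha) a ha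
        rw [inv_mul_cancel, hξ1] at h
        exact eq_neg_of_add_eq_zero_left h.symm
      refine ⟨e ▸ mul_mem ha hc, ?_⟩
      rw [e, hadd a ha _ hc, ← hm g _ (inv_mem ha), hi, Matrix.mulVec_neg, Matrix.sub_mulVec,
        Matrix.one_mulVec]
      abel
    obtain ⟨h1, h1'⟩ := hstep w hwW
    obtain ⟨h2, h2'⟩ := hstep _ h1
    rw [h1', Matrix.mulVec_neg, neg_neg, Matrix.mulVec_mulVec] at h2'
    rw [← h2']
    obtain ⟨b, hb, rfl⟩ := hWW hwW
    have he : ⁅⁅σ.q b, f g⁆, f g⁆ = σ.q ⁅⁅b, (g : G)⁆, (g : G)⁆ := by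
      rw [map_commutatorElement, map_commutatorElement]; rfl
    rw [he, σ.q_eq_one.mpr (hg b hb), hξ1]
  let a' : X := ⟨c.x, subset_closure (Or.inl rfl)⟩
  let b' : X := ⟨y, subset_closure (Or.inr rfl)⟩
  have hgen : Subgroup.closure ({a', b'} : Set X) = ⊤ := by
    apply Subgroup.map_injective X.subtype_injective
    rw [MonoidHom.map_closure, ← MonoidHom.range_eq_map, range_subtype]
    simp [hX, a', b', Set.image_insert_eq, Set.image_singleton]
  have hqy : σ.Quad c.B y := by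
    have h := σ.quad_cj (g := c.n) (B := c.B) c.x_quad
    rwa [cj_eq_of_mem_normalizer (c.B_norm c.n_norm)] at h
  have hfix : ∀ g : X, m g *ᵥ ξ (σ.q σ.z) = ξ (σ.q σ.z) ↔ ⁅(g : G), σ.z⁆ ∈ σ.Y := fun g => by
    rw [hm g _ hzW, σ.q_conj_z, map_mul, map_mul, map_inv]
    exact ⟨fun h => hinj _ ((mem_normalizer_iff.mp (hfW g) _).mp hzW) _ hzW h,
      fun h => congrArg ξ h⟩
  have hw : m a' *ᵥ ξ (σ.q σ.z) = ξ (σ.q σ.z) :=
    (hfix a').mpr (σ.comm_mem_Y_symm (σ.z_central c.x c.x_mem))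
  have hspan : Submodule.span (ZMod p) (Set.range fun g : X => m g *ᵥ ξ (σ.q σ.z)) = ⊤ := by
    set V := Submodule.span (ZMod p) (Set.range fun g : X => m g *ᵥ ξ (σ.q σ.z))
    rw [eq_top_iff]
    rintro v -
    obtain ⟨w, hw, rfl⟩ := hsurj v
    induction hw using Subgroup.closure_induction with
    | mem w hw =>
      obtain ⟨g, rfl⟩ := hw
      refine Submodule.subset_span ⟨g, ?_⟩
      show m g *ᵥ ξ (σ.q σ.z) = _
      rw [hm g _ hzW]
      congr 1
    | one => rw [hξ1]; exact zero_mem _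
    | mul a b ha hb iha ihb => rw [hadd a ha b hb]; exact add_mem iha ihb
    | inv a ha iha =>
      have h := hadd a⁻¹ (inv_mem ha) a ha
      rw [inv_mul_cancel, hξ1] at h
      rw [eq_neg_of_add_eq_zero_left h.symm]
      exact neg_mem iha
  obtain ⟨k, hk⟩ : ∃ k, c.x ^ p ^ k = 1 := by
    obtain ⟨k, hk⟩ := σ.sylow.2.1 ⟨c.x, c.x_mem⟩
    exact ⟨k, congrArg Subtype.val hk⟩
  have hap : ∃ k, a' ^ p ^ k = 1 := ⟨k, Subtype.ext hk⟩
  -- the group is not a `p`-group on the module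
  have hnp : ∃ g : X, ∀ k : ℕ, m (g ^ p ^ k) ≠ 1 := by
    by_contra hcon
    push Not at hcon
    apply c.n_bad
    set μ := m.toHomUnits with hμ
    have hrp : IsPGroup p μ.range := by
      rintro ⟨_, g, rfl⟩
      obtain ⟨i, hi⟩ := hcon g
      refine ⟨i, Subtype.ext (Units.ext ?_)⟩
      rw [SubgroupClass.coe_pow, ← map_pow]
      exact hi
    have hza : IsPGroup p (Subgroup.zpowers a') := by
      intro g
      obtain ⟨i, hi⟩ := mem_zpowers_iff.mp g.2
      exact ⟨k, Subtype.ext (by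
        rw [SubgroupClass.coe_pow, OneMemClass.coe_one, ← hi, ← zpow_natCast, ← _root_.zpow_mul,
          mul_comm, _root_.zpow_mul, zpow_natCast, show a' ^ p ^ k = 1 from Subtype.ext hk,
          _root_.one_zpow])⟩
    obtain ⟨P, hP⟩ := hza.exists_le_sylow
    haveI : Finite μ.range := Finite.of_surjective _ μ.rangeRestrict_surjective
    have hPtop : ((P.mapSurjective μ.rangeRestrict_surjective : Sylow p μ.range) :
        Subgroup μ.range) = ⊤ :=
      ((P.mapSurjective μ.rangeRestrict_surjective).3 (hrp.to_subgroup ⊤) le_top).symm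
    have hmem : μ.rangeRestrict b' ∈ ((P.mapSurjective μ.rangeRestrict_surjective :
        Sylow p μ.range) : Subgroup μ.range) := hPtop ▸ mem_top _
    rw [Sylow.coe_mapSurjective] at hmem
    obtain ⟨r, hr, hrb⟩ := hmem
    have hPG : IsPGroup p ((P : Subgroup X).map X.subtype) := P.isPGroup'.map _
    have hkey : m (r⁻¹ * b') = 1 := by
      have h : μ r = μ b' := congrArg Subtype.val hrb
      have h' : μ (r⁻¹ * b') = 1 := by rw [map_mul, map_inv, h, inv_mul_cancel]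
      exact congrArg Units.val h'
    have hz : ⁅((r⁻¹ * b' : X) : G), σ.z⁆ ∈ σ.Y := (hfix _).mp (by rw [hkey, Matrix.one_mulVec])
    have hk' : ((r⁻¹ * b' : X) : G) ∈ L := hXL (r⁻¹ * b').2
    have h := (c.stab _ hk' hz).mul σ (g' := (r : G)) (by
      rw [cj_eq_of_mem_normalizer hk']
      exact c.se _ hPG (map_subtype_le _ |>.trans hXL) ⟨a', hP (mem_zpowers a'), rfl⟩ _
        ⟨r, hr, rfl⟩)
    rwa [← Subgroup.coe_mul, mul_inv_cancel_left] at h
  obtain ⟨P, u, t, ζ, W', π, hP, haP, huP, htP, hζ, hwW, hπw, hπtop, hu, ht⟩ :=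
    exists_torus_plane hp m hgen (hquad a' c.x_quad) (hquad b' hqy) hap hnp hw hspan
  -- back in the group
  set P1 := P.map X.subtype with hP1
  have hP1L : P1 ≤ L := (map_subtype_le P).trans hXL
  have hPp : IsPGroup p ↥(P1 ⊔ c.R) := (hP.map _).to_sup_of_normal_right' c.R_p hP1L
  have hPL : P1 ⊔ c.R ≤ L := sup_le hP1L le_normalizer
  have htP' : (t : G) *• (P1 ⊔ c.R) = P1 ⊔ c.R := by
    rw [Subgroup.map_sup, cj_eq_of_mem_normalizer (hXL t.2)]
    congr 1
    rw [hP1, Subgroup.map_map]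
    conv_rhs => rw [← cj_eq_of_mem_normalizer htP, Subgroup.map_map]
    rfl
  obtain ⟨hgood, a, haS, hga⟩ := c.act _ hPp hPL (mem_sup_left ⟨a', haP, rfl⟩) le_sup_right _
    (hXL t.2) htP'
  let B2 : Subgroup G :=
    { carrier := {b | b ∈ c.B ∧ σ.q b ∈ W ∧ ξ (σ.q b) ∈ W'}
      one_mem' := ⟨one_mem _, by rw [map_one]; exact one_mem _, by
        rw [map_one, hξ1]; exact zero_mem _⟩
      mul_mem' := fun {b b'} h h' => ⟨mul_mem h.1 h'.1, by rw [map_mul]; exact mul_mem h.2.1 h'.2.1,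
        by rw [map_mul, hadd _ h.2.1 _ h'.2.1]; exact add_mem h.2.2 h'.2.2⟩
      inv_mem' := fun {b} h => ⟨inv_mem h.1, by rw [map_inv]; exact inv_mem h.2.1, by
        have e := hadd (σ.q b)⁻¹ (inv_mem h.2.1) (σ.q b) h.2.1
        rw [inv_mul_cancel, hξ1] at e
        rw [map_inv, eq_neg_of_add_eq_zero_left e.symm]
        exact neg_mem h.2.2⟩ }
  have hact : ∀ (g : X) (M : Matrix (Fin 2) (Fin 2) (ZMod p)),
      (∀ v ∈ W', m g *ᵥ v ∈ W' ∧ π (m g *ᵥ v) = M *ᵥ π v) → ∀ b ∈ B2,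
      (g : G) * b * (g : G)⁻¹ ∈ B2 ∧
        π (ξ (σ.q ((g : G) * b * (g : G)⁻¹))) = M *ᵥ π (ξ (σ.q b)) := by
    intro g M hg b hb
    have e : σ.q ((g : G) * b * (g : G)⁻¹) = f g * σ.q b * (f g)⁻¹ := by
      rw [map_mul, map_mul, map_inv]; rfl
    have hM := hg _ hb.2.2
    rw [hm g _ hb.2.1, ← e] at hM
    exact ⟨⟨(mem_normalizer_iff.mp (c.B_norm (hXL g.2)) b).mp hb.1,
      e ▸ (mem_normalizer_iff.mp (hfW g) _).mp hb.2.1, hM.1⟩, hM.2⟩
  refine ⟨{
    R := c.R, P := P1 ⊔ c.R, B := B2, u := (u : G), t := (t : G), a := a, ζ := ζ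
    f := fun g => π (ξ (σ.q g))
    P_p := hPp
    R_le := le_sup_right
    B_le := fun b hb => c.B_le hb.1
    u_mem := mem_sup_left ⟨u, huP, rfl⟩
    t_norm := mem_normalizer_iff_cj.mpr htP'
    orderOf_ζ := hζ
    z_mem := ⟨c.z_mem, hzW, hwW⟩
    f_z := hπw
    f_add := fun b hb b' hb' => by
      show π _ = _
      rw [map_mul, hadd _ hb.2.1 _ hb'.2.1, map_add]
    f_surj := fun v => ?_
    f_u := hact u _ hu
    f_t := hact t _ ht
    good_t := hgood
    conj_le := haS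
    good_conj := hga }⟩
  obtain ⟨w', hw', rfl⟩ := (hπtop.ge (Submodule.mem_top : v ∈ ⊤) : v ∈ W'.map π)
  obtain ⟨q', hq', rfl⟩ := hsurj w'
  obtain ⟨b, hb, rfl⟩ := hWW hq'
  exact ⟨b, ⟨hb, hq', hw'⟩, rfl⟩

end Setting

end CfsgLib.LocalEven.ZJFailure
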