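import Cfsg.Agent.LocalEven.ZJFailure.Main
import Cfsg.Agent.OddOrder.ZJ.Main
import Cfsg.Agent.PLocal.ZJTheorem
import Cfsg.Agent.BlocksCharsC.PGroupCenter
import Cfsg.Prelude.Def_LocalEven

/-!
# Failure of fusion control by `Z(J(S))`: reduction to a minimal overgroup

A minimal overgroup of `S` in which `N(Z(J(S)))` fails to control fusion gives a setting.
-/

set_option autoImplicit false

namespace CfsgLib.LocalEven.ZJFailure

open Subgroup CfsgLib.ConjFunctor CfsgLib.LocalEvenBasic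
open scoped commutatorElement

variable {p : ℕ} [Fact p.Prime]

/-- `N(Z)` does not control fusion in `S` inside `K`. -/
def FailsIn {G : Type*} [Group G] (S Z K : Subgroup G) : Prop :=
  ∃ U : Subgroup G, U ≤ S ∧ ∃ g ∈ K, g *• U ≤ S ∧
    ¬ ∃ h ∈ K ⊓ Subgroup.normalizer (Z : Set G), ∀ u ∈ U, h * u * h⁻¹ = g * u * g⁻¹

/-- A group in which every proper overgroup of `S` controls, but not the whole group. -/
theorem exists_setting {G : Type*} [Group G] [Finite G] {S : Subgroup G} (hS : IsSylowIn p S ⊤)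
    (htop : FailsIn S (Cfsg.centerThompsonAOf S) ⊤)
    (hmin : ∀ K : Subgroup G, S ≤ K → FailsIn S (Cfsg.centerThompsonAOf S) K → K = ⊤) :
    ∃ σ : Setting p G, σ.Z = Cfsg.centerThompsonAOf S := by
  classical
  set Z := Cfsg.centerThompsonAOf S with hZ
  set Y := Z.normalCore with hY
  have hZS : Z ≤ S := CfsgLib.PLocal.centerThompsonAOf_le S
  have hYZ : Y ≤ Z := normalCore_le Z
  have hSN : S ≤ Subgroup.normalizer (Z : Set G) :=
    le_normalizer.trans (CfsgLib.PLocal.normalizer_le_normalizer_centerThompsonAOf S)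
  obtain ⟨U₀, hU₀, g₀, -, hg₀, hbad₀⟩ := htop
  have hfail : ∃ U : Subgroup G, U ≤ S ∧ ∃ g : G, g *• U ≤ S ∧
      ¬ ∃ h ∈ Subgroup.normalizer (Z : Set G), ∀ u ∈ U, h * u * h⁻¹ = g * u * g⁻¹ :=
    ⟨U₀, hU₀, g₀, hg₀, fun ⟨h, hh, he⟩ => hbad₀ ⟨h, ⟨mem_top h, hh⟩, he⟩⟩
  have hne : ¬ Z ≤ Y := by
    intro hle
    have he : Y = Z := le_antisymm hYZ hle
    have hn : Z.Normal := he ▸ normalCore_normal Z
    obtain ⟨U, -, g, -, hbad⟩ := hfail
    exact hbad ⟨g, normalizer_eq_top (H := Z) ▸ mem_top g, fun u _ => rfl⟩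
  -- an element of `Z` central modulo `Y`
  set q := QuotientGroup.mk' Y with hq
  set Sq := S.map q with hSq
  haveI hn : ((Z.map q).subgroupOf Sq).Normal := by
    refine normal_subgroupOf_iff_le_normalizer (map_mono hZS) |>.mpr ?_
    rintro _ ⟨s, hs, rfl⟩
    exact le_normalizer_map q (mem_map_of_mem q (hSN hs))
  haveI : Nontrivial ((Z.map q).subgroupOf Sq) := by
    refine (nontrivial_iff_ne_bot _).mpr fun h => hne fun x hx => ?_
    have hm : (⟨q x, mem_map_of_mem q (hZS hx)⟩ : Sq) ∈ (Z.map q).subgroupOf Sq :=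
      mem_map_of_mem q hx
    rw [h, mem_bot] at hm
    exact (QuotientGroup.eq_one_iff x).mp (congrArg Subtype.val hm)
  have hSqp : IsPGroup p Sq := hS.2.1.map q
  have hI := CfsgLib.BlocksCharsC.inf_center_ne_bot hSqp ((Z.map q).subgroupOf Sq)
  haveI : Nontrivial ((Z.map q).subgroupOf Sq ⊓ Subgroup.center Sq : Subgroup Sq) :=
    (nontrivial_iff_ne_bot _).mpr hI
  obtain ⟨j, hj0, hj⟩ := (hSqp.to_subgroup
    ((Z.map q).subgroupOf Sq ⊓ Subgroup.center Sq)).nontrivial_iff_card.mp inferInstance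
  obtain ⟨w, hw⟩ := exists_prime_orderOf_dvd_card'
    (G := ((Z.map q).subgroupOf Sq ⊓ Subgroup.center Sq : Subgroup Sq)) p
    (hj ▸ dvd_pow_self p hj0.ne')
  obtain ⟨z, hz, hzw⟩ := w.2.1
  have hw0 : orderOf (q z) = p := by
    rw [hzw]
    show orderOf ((w : Sq) : G ⧸ Y) = p
    rw [Subgroup.orderOf_coe, Subgroup.orderOf_coe, hw]
  have hzY : z ∉ Y := fun h => (Fact.out : p.Prime).ne_one (by
    rw [← hw0, show q z = 1 from (QuotientGroup.eq_one_iff z).mpr h, orderOf_one])
  have hqc : ∀ a b : G, ⁅a, b⁆ ∈ Y ↔ q a * q b = q b * q a := fun a b => by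
    rw [← QuotientGroup.eq_one_iff, ← commutatorElement_eq_one_iff_mul_comm,
      ← map_commutatorElement]
    rfl
  have hzc : ∀ s ∈ S, ⁅z, s⁆ ∈ Y := fun s hs => (hqc z s).mpr (by
    have h := congrArg Subtype.val (mem_center_iff.mp w.2.2 ⟨q s, mem_map_of_mem q hs⟩)
    rw [hzw]
    exact h.symm)
  set dS := ZJFailure.mab S with hdS
  have hmax : ∀ A : Subgroup G, A ≤ S → IsMulCommutative A → Nat.card A = dS →
      A ∈ CfsgLib.OddOrder.ZJ.maxIn 0 S := fun A h1 h2 h3 => mem_maxIn_iff.mpr ⟨h1, h2, h3⟩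
  have hJ : CfsgLib.OddOrder.ZJ.jay 0 S =
      sSup {A : Subgroup G | A ≤ S ∧ IsMulCommutative A ∧ Nat.card A = dS} := by
    rw [CfsgLib.OddOrder.ZJ.jay]
    congr 1
    ext A
    exact mem_maxIn_iff
  have hZJ : Z = CfsgLib.OddOrder.ZJ.zjay 0 S := (CfsgLib.OddOrder.ZJ.zjay_zero S).symm
  refine ⟨{
    S := S, Z := Z, Y := Y, z := z, dS := dS
    sylow := hS
    le_norm := hSN
    comm := hZJ ▸ CfsgLib.OddOrder.ZJ.zjay_comm 0 S
    normal := normalCore_normal Z
    Y_le := hYZ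
    Z_le := hZS
    z_mem := hz
    z_nmem := hzY
    z_central := hzc
    z_pow := (QuotientGroup.eq_one_iff (N := Y) (z ^ p)).mp (by
      show q (z ^ p) = 1
      rw [map_pow, ← hw0, pow_orderOf_eq_one])
    max_le := fun A h1 h2 => card_le_mab h1 h2
    cent := fun A h1 h2 h3 => by
      rw [hZJ]
      exact (inf_le_right : CfsgLib.OddOrder.ZJ.zjay 0 S ≤ _).trans
        (centralizer_le (SetLike.coe_subset_coe.mpr (le_sSup (hmax A h1 h2 h3))))
    norm_T := fun g hg => ?_
    controlled := ?_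
    failing := hfail }, rfl⟩
  · rw [← hJ] at hg
    rw [mem_normalizer_iff_cj, hZJ, CfsgLib.OddOrder.ZJ.zjay, cj_inf, hg]
    congr 1
    refine cj_eq_of_mem_normalizer (mem_normalizer_of_forall_conj_mem fun c hc => ?_)
    refine mem_centralizer_iff.mpr fun y hy => ?_
    have hy' : g⁻¹ * y * g ∈ CfsgLib.OddOrder.ZJ.jay 0 S := mem_cj.mp (hg.symm ▸ hy)
    calc y * (g * c * g⁻¹) = g * (g⁻¹ * y * g * c) * g⁻¹ := by group
      _ = g * (c * (g⁻¹ * y * g)) * g⁻¹ := by rw [mem_centralizer_iff.mp hc _ hy']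
      _ = _ := by group
  · intro U hU g hgU hgz
    set K1 := (Subgroup.centralizer ({q z} : Set (G ⧸ Y))).comap q with hK1
    have hK : ∀ x : G, x ∈ K1 ↔ ⁅x, z⁆ ∈ Y := fun x => by
      rw [hqc, hK1, mem_comap, mem_centralizer_singleton_iff]
    have hSK : S ≤ K1 := fun s hs => (hK s).mpr ((hqc s z).mpr ((hqc z s).mp (hzc s hs)).symm)
    have hK1 : K1 ≠ ⊤ := by
      intro he
      refine hzY ?_
      have hcen : q z ∈ Subgroup.center (G ⧸ Y) := mem_center_iff.mpr fun x => by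
        obtain ⟨x, rfl⟩ := QuotientGroup.mk'_surjective Y x
        exact (hqc x z).mp ((hK x).mp (he ▸ mem_top x))
      haveI : (Subgroup.zpowers (q z)).Normal := ⟨fun a ha b => by
        rw [mem_center_iff.mp (zpowers_le.mpr hcen ha) b, mul_inv_cancel_right]; exact ha⟩
      have hle : (Subgroup.zpowers (q z)).comap q ≤ Z := by
        intro x hx
        obtain ⟨i, hi⟩ := mem_zpowers_iff.mp hx
        have hy : (z ^ i)⁻¹ * x ∈ Y := by
          rw [← QuotientGroup.eq_one_iff]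
          show q ((z ^ i)⁻¹ * x) = 1
          rw [map_mul, map_inv, map_zpow, hi, inv_mul_cancel]
        simpa using mul_mem (zpow_mem hz i) (hYZ hy)
      exact normal_le_normalCore.mpr hle (mem_zpowers (q z))
    by_contra hcon
    exact hK1 (hmin K1 hSK ⟨U, hU, g, (hK g).mpr hgz, hgU,
      fun ⟨h, hh, he⟩ => hcon ⟨h, hh.2, he⟩⟩)

/-- **Glauberman: the structure of `N(Z(J(S)))` when it does not control fusion.** -/
theorem structure_of_not_controls {G : Type*} [Group G] [Finite G] (hp : p ≠ 2) (S : Sylow p G)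
    (h : ¬ Cfsg.ControlsStrongFusion p (Cfsg.centerThompsonAOf (S : Subgroup G))) :
    Cfsg.Involves ↥(Cfsg.fOver (ZMod p))
        ↥(Subgroup.normalizer ((Cfsg.centerThompsonAOf (S : Subgroup G)) : Set G)) ∧
      ∃ C : Subgroup G, C ≤ Cfsg.centerThompsonAOf (S : Subgroup G) ∧ Nat.card C = p ∧
        (Subgroup.normalizer ((Cfsg.centerThompsonAOf (S : Subgroup G)) : Set G) ⊓
          Subgroup.centralizer (C : Set G)).relIndex
          (Subgroup.normalizer ((Cfsg.centerThompsonAOf (S : Subgroup G)) : Set G) ⊓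
            Subgroup.normalizer (C : Set G)) = p - 1 := by
  classical
  set T : Subgroup G := (S : Subgroup G) with hT
  set Z := Cfsg.centerThompsonAOf T with hZ
  set H := Subgroup.normalizer (Z : Set G) with hH
  have hTs : IsSylowIn p T ⊤ := isSylowIn_top S
  have htop : FailsIn T Z ⊤ := by
    by_contra hc
    apply h
    refine ⟨S, CfsgLib.PLocal.centerThompsonAOf_le T, fun A hA => ⟨hA, fun g hg => ?_⟩⟩
    by_contra hng
    refine hc ⟨Subgroup.closure A, (closure_le _).mpr hA, g, mem_top g, ?_, fun ⟨x, hx, he⟩ =>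
      hng ⟨x, hx.2, fun a ha => (he a (subset_closure ha)).symm⟩⟩
    rw [MonoidHom.map_closure]
    exact (closure_le _).mpr hg
  obtain ⟨K, ⟨hSK, hKf⟩, hKmin⟩ := Set.Finite.exists_minimalFor
    (fun K : Subgroup G => Nat.card K) {K : Subgroup G | T ≤ K ∧ FailsIn T Z K}
    (Set.toFinite _) ⟨⊤, le_top, htop⟩
  -- inside `K`
  set T' := T.subgroupOf K with hT'
  have hTK : T'.map K.subtype = T := map_subgroupOf_eq_of_le hSK
  have hZ' : (Cfsg.centerThompsonAOf T').map K.subtype = Z := by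
    rw [CfsgLib.PLocal.map_centerThompsonAOf K.subtype_injective, hTK]
  have hcj : ∀ (g : K) (U : Subgroup K),
      (g *• U).map K.subtype = (g : G) *• U.map K.subtype := fun g U => by
    rw [Subgroup.map_map, Subgroup.map_map]
    rfl
  have hH' : ∀ g : K, g ∈ Subgroup.normalizer (Cfsg.centerThompsonAOf T' : Set K) ↔ (g : G) ∈ H :=
    fun g => by
      rw [hH, mem_normalizer_iff_cj, mem_normalizer_iff_cj, ← hZ', ← hcj]
      exact (map_injective K.subtype_injective).eq_iff.symm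
  have htr : ∀ L : Subgroup K,
      FailsIn T' (Cfsg.centerThompsonAOf T') L ↔ FailsIn T Z (L.map K.subtype) := by
    intro L
    constructor
    · rintro ⟨U, hU, g, hgL, hgU, hbad⟩
      refine ⟨U.map K.subtype, hTK ▸ map_mono hU, g, mem_map_of_mem K.subtype hgL,
        by rw [← hcj, ← hTK]; exact map_mono hgU, ?_⟩
      rintro ⟨_, ⟨⟨x, hxL, rfl⟩, hxN⟩, he⟩
      exact hbad ⟨x, ⟨hxL, (hH' x).mpr hxN⟩, fun u hu =>
        Subtype.ext (he u (mem_map_of_mem K.subtype hu))⟩
    · rintro ⟨U, hU, _, ⟨g, hgL, rfl⟩, hgU, hbad⟩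
      refine ⟨U.subgroupOf K, fun u hu => hU hu, g, hgL, ?_, ?_⟩
      · rintro _ ⟨u, hu, rfl⟩
        exact hgU ⟨(u : G), hu, rfl⟩
      · rintro ⟨x, ⟨hxL, hxN⟩, he⟩
        exact hbad ⟨x, ⟨⟨x, hxL, rfl⟩, (hH' x).mp hxN⟩, fun u hu =>
          congrArg Subtype.val (he ⟨u, hSK (hU hu)⟩ hu)⟩
  have hTs' : IsSylowIn p T' ⊤ := by
    refine ⟨le_top, hTs.2.1.comap_subtype, ?_⟩
    rw [relIndex_top_right]
    exact (hTs.of_le hSK le_top).2.2
  have hKtop : (⊤ : Subgroup K).map K.subtype = K := by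
    rw [← MonoidHom.range_eq_map, range_subtype]
  obtain ⟨σ, hσ⟩ := exists_setting hTs' ((htr ⊤).mpr (by rwa [hKtop])) fun L hL hLf => by
    by_contra hne
    have hlt : L.map K.subtype < K := by
      conv_rhs => rw [← hKtop]
      exact (map_lt_map_iff_of_injective K.subtype_injective).mpr (lt_top_iff_ne_top.mpr hne)
    have hle := hKmin (j := L.map K.subtype) ⟨hTK ▸ map_mono hL, (htr L).mp hLf⟩
      (Nat.card_mono (Set.toFinite _) hlt.le)
    exact hlt.ne (eq_of_le_of_card_ge hlt.le hle)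
  obtain ⟨hinv, C, hC, hCp, hrel⟩ := σ.failure_structure hp
  have hσH : ∀ g : K, g ∈ σ.H ↔ (g : G) ∈ H := fun g => by rw [Setting.H, hσ]; exact hH' g
  have hσm : σ.H.map K.subtype = K ⊓ H := by
    ext g
    exact ⟨fun ⟨x, hx, e⟩ => e ▸ ⟨x.2, (hσH x).mp hx⟩, fun hg => ⟨⟨g, hg.1⟩, (hσH _).mpr hg.2, rfl⟩⟩
  refine ⟨?_, C.map K.subtype, hZ' ▸ map_mono (hσ ▸ hC),
    by rw [card_map_of_injective K.subtype_injective, hCp], ?_⟩
  · -- the section
    set KH := (K ⊓ H).subgroupOf H with hKH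
    let e : ↥KH ≃* ↥σ.H := ((Subgroup.subgroupOfEquivOfLe (inf_le_right : K ⊓ H ≤ H)).trans
      (MulEquiv.subgroupCongr hσm.symm)).trans
        (σ.H.equivMapOfInjective K.subtype K.subtype_injective).symm
    exact CfsgLib.LocalEven.involves_of_hom KH e.toMonoidHom e.surjective hinv
  · -- the index
    set C' := C.map K.subtype with hC'
    set N := H ⊓ Subgroup.normalizer (C' : Set G) with hN
    set Z0 := H ⊓ Subgroup.centralizer (C' : Set G) with hZ0
    have hcK : ∀ g : K, g ∈ σ.H ⊓ Subgroup.normalizer (C : Set K) ↔ (g : G) ∈ N := fun g => by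
      rw [hN, mem_inf, mem_inf, hσH]
      refine and_congr_right fun _ => ?_
      rw [mem_normalizer_iff_cj, mem_normalizer_iff_cj, hC', ← hcj,
        (map_injective K.subtype_injective).eq_iff]
    have hzK : ∀ g : K, g ∈ σ.H ⊓ Subgroup.centralizer (C : Set K) ↔ (g : G) ∈ Z0 := fun g => by
      rw [hZ0, mem_inf, mem_inf, hσH, mem_centralizer_iff, mem_centralizer_iff]
      refine and_congr_right fun _ => ⟨?_, fun h c hc => Subtype.ext (h _ ⟨c, hc, rfl⟩)⟩
      rintro h _ ⟨c, hc, rfl⟩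
      exact congrArg Subtype.val (h c hc)
    have e1 : σ.H ⊓ Subgroup.normalizer (C : Set K) = N.subgroupOf K := by ext g; exact hcK g
    have e2 : σ.H ⊓ Subgroup.centralizer (C : Set K) = Z0.subgroupOf K := by ext g; exact hzK g
    rw [e1, e2] at hrel
    refine le_antisymm ?_ ?_
    · -- the automorphisms of a group of order `p`
      have hC'p : Nat.card C' = p := by rw [hC', card_map_of_injective K.subtype_injective, hCp]
      have hcyc : IsCyclic C' := isCyclic_of_prime_card hC'p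
      let χ : ↥N →* MulAut C' := C'.normalizerMonoidHom.comp (inclusion inf_le_right)
      have hker : χ.ker = Z0.subgroupOf N := by
        ext g
        have h := SetLike.ext_iff.mp (C'.normalizerMonoidHom_ker) (inclusion inf_le_right g)
        rw [MonoidHom.mem_ker, mem_subgroupOf] at h
        rw [MonoidHom.mem_ker, mem_subgroupOf]
        exact h.trans ⟨fun h' => ⟨g.2.1, h'⟩, fun h' => h'.2⟩
      rw [Subgroup.relIndex, ← hker, Subgroup.index_ker]
      refine (Subgroup.card_le_card_group χ.range).trans (le_of_eq ?_)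
      rw [hcyc.card_mulAut, hC'p, Nat.totient_prime Fact.out]
    · rw [← hrel]
      have e3 : (Z0.subgroupOf K).relIndex (N.subgroupOf K) = Z0.relIndex (K ⊓ N) := by
        rw [show Z0.subgroupOf K = Z0.comap K.subtype from rfl, Subgroup.relIndex_comap,
          subgroupOf_map_subtype, inf_comm]
      rw [e3]
      exact Subgroup.relIndex_le_of_le_right inf_le_right FiniteIndex.index_ne_zero

end CfsgLib.LocalEven.ZJFailure
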